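import Cfsg.Agent.JOneRecog.Cert.Rels

/-!
Words showing that the action is primitive.
-/

set_option autoImplicit false
set_option maxRecDepth 100000
set_option linter.all false

namespace Cfsg.Agent.JOneRecog.Cert

/-- Words moving the base point. -/
def blockWords0 : List (List ℕ × List ℕ) :=
  [([7], [9]),
   ([8], [9, 3, 9, 3]),
   ([8, 4], [9, 9]),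
   ([7, 4], [9, 3]),
   ([8, 3], [9, 9]),
   ([7, 3], [9, 3, 3]),
   ([7, 5], [9, 1, 2, 5]),
   ([7, 5, 8], [9, 9, 1, 9]),
   ([7, 5, 2, 8], [9, 1, 9, 9]),
   ([7, 6], [9, 5]),
   ([7, 5, 5], [9, 2, 5, 3]),
   ([7, 6, 6], [9, 5, 5]),
   ([7, 5, 2], [9, 1, 5]),
   ([7, 3, 6], [9, 1, 3, 5]),
   ([7, 5, 1], [9, 2, 5]),
   ([7, 3, 5, 1], [9, 3, 1, 5]),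
   ([7, 6, 4], [9, 3, 5]),
   ([7, 3, 5], [9, 2, 3, 5]),
   ([7, 4, 6], [9, 5, 3]),
   ([7, 6, 7], [9, 0, 9, 3, 9, 1, 9, 5]),
   ([7, 5, 2, 7], [9, 3, 9, 0, 9, 3, 9, 9]),
   ([7, 5, 2, 7, 5], [9, 1, 5, 9, 0, 9, 1, 5]),
   ([7, 6, 6, 8, 6], [9, 1, 9, 5, 5, 9]),
   ([7, 6, 6, 8], [9, 0, 9, 9]),
   ([7, 4, 5, 8], [9, 0, 1, 9, 1, 9]),
   ([7, 4, 5], [9, 2, 5, 5]),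
   ([8, 6], [9, 5, 3, 9, 5, 3]),
   ([8, 5], [9, 9, 9, 9, 9]),
   ([8, 5, 5], [9, 2, 5, 9, 2, 5]),
   ([8, 6, 6], [9, 1, 5, 9, 1, 5]),
   ([8, 5, 2], [9, 9, 9, 9, 9]),
   ([8, 3, 6], [9, 5, 9, 5]),
   ([8, 5, 1], [9, 9, 9, 9, 9]),
   ([8, 3, 5, 1], [9, 9, 1, 9, 9]),
   ([8, 6, 4], [9, 9, 9, 9, 9]),
   ([8, 3, 5], [9, 9, 1, 9, 9]),
   ([8, 4, 6], [9, 5, 9, 5]),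
   ([8, 6, 7], [9, 0, 9, 9, 3, 3]),
   ([8, 5, 2, 7], [9, 9, 0, 9, 3, 3]),
   ([8, 4, 5], [9, 1, 2, 5, 9, 1, 2, 5]),
   ([8, 4, 6, 7], [9, 9, 2, 9, 3, 3]),
   ([8, 6, 6, 7], [9, 9, 2, 9, 3, 3]),
   ([8, 6, 6, 7, 5], [9, 1, 2, 9, 9, 2, 5]),
   ([8, 5, 2, 8, 6], [9, 3, 9, 9, 2, 5, 9]),
   ([8, 5, 2, 8], [9, 5, 9, 3, 5, 1, 9, 9]),
   ([8, 5, 8], [9, 0, 5, 2, 9, 3, 5, 9]),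
   ([7, 4, 6, 7], [9, 3, 1, 3, 9, 3, 5]),
   ([7, 6, 6, 7], [9, 3, 3, 9, 3, 1, 5]),
   ([7, 6, 6, 7, 5], [9, 2, 3, 5, 9, 2, 5]),
   ([8, 6, 4, 8, 6], [9, 9, 9, 2, 9]),
   ([8, 6, 4, 8], [9, 3, 5, 9, 3, 9, 9]),
   ([8, 3, 5, 8], [9, 1, 9, 9, 9, 5, 5]),
   ([8, 3, 6, 7], [9, 2, 5, 9, 2, 3, 5]),
   ([8, 6, 4, 7], [9, 5, 9, 3, 5]),
   ([8, 6, 4, 7, 5], [9, 9, 5, 3]),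
   ([7, 6, 4, 8, 6], [9, 5, 9, 9, 9, 9]),
   ([7, 6, 4, 8], [9, 0, 1, 9, 9]),
   ([7, 3, 5, 8], [9, 0, 1, 9, 9]),
   ([7, 3, 6, 7], [9, 0, 2, 9, 2, 3, 9, 5]),
   ([7, 6, 4, 7], [9, 0, 9, 3, 9, 2, 5]),
   ([7, 6, 4, 7, 5], [9, 0, 9, 9, 0, 9]),
   ([8, 6, 6, 8, 6], [9, 3, 9, 3, 9, 3]),
   ([8, 6, 6, 8], [9, 0, 3, 9, 9, 3, 3]),
   ([8, 4, 5, 8], [9, 9, 0, 5, 2, 5, 9]),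
   ([7, 5, 7], [9, 9, 3, 9, 9, 2, 5]),
   ([7, 5, 8, 8], [9, 0, 3, 9, 3, 9, 3]),
   ([7, 5, 1, 7], [9, 9, 0, 9, 9, 5, 9]),
   ([7, 5, 7, 7], [9, 2, 9, 5, 3]),
   ([7, 3, 5, 8, 3], [9, 0, 9, 2, 9, 9, 9]),
   ([7, 3, 5, 7, 3], [9, 5, 9, 1, 9, 3, 9]),
   ([7, 4, 5, 8, 5], [9, 9, 2, 5, 2, 3, 9]),
   ([7, 5, 7, 5, 8], [9, 3, 9, 9, 1, 9, 3, 5]),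
   ([7, 5, 7, 5], [9, 5, 9, 9, 9, 3, 3]),
   ([7, 5, 1, 8], [9, 0, 9, 0, 1, 9]),
   ([7, 5, 1, 8, 6], [9, 0, 3, 9, 0, 5, 5, 9, 5]),
   ([7, 5, 8, 6], [9, 1, 9, 5, 5, 9, 5]),
   ([7, 6, 8], [9, 9, 1, 9]),
   ([7, 5, 2, 8, 3], [9, 3, 9, 9, 2, 5, 9, 9]),
   ([7, 5, 8, 3], [9, 3, 9, 1, 9, 5, 9, 9]),
   ([7, 5, 8, 4], [9, 3, 9, 2, 3, 9, 3]),
   ([7, 3, 6, 8, 8], [9, 2, 3, 9, 3, 9, 3]),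
   ([7, 3, 5, 7, 4], [9, 9, 3, 1, 9, 5, 3]),
   ([7, 5, 2, 8, 5], [9, 9, 5, 9, 0, 5, 9]),
   ([7, 5, 8, 4, 6], [9, 9, 2, 9, 0, 9, 3]),
   ([7, 5, 8, 6, 2], [9, 9, 5, 9, 9, 1, 5, 9]),
   ([7, 5, 2, 8, 4], [9, 2, 3, 9, 3, 9, 3]),
   ([7, 5, 7, 6, 4], [9, 1, 9, 9, 0, 9, 3]),
   ([7, 6, 7, 5, 4], [9, 5, 5, 9, 9, 3, 5]),
   ([7, 5, 7, 5, 1], [9, 0, 5, 9, 1, 9, 5]),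
   ([7, 4, 6, 8, 6], [9, 1, 9, 5, 5, 9]),
   ([7, 4, 6, 8], [9, 0, 9, 9]),
   ([7, 5, 5, 8], [9, 0, 9, 9]),
   ([7, 6, 8, 4], [9, 3, 9, 2, 3, 9, 3]),
   ([7, 4, 6, 8, 4], [9, 0, 3, 9, 3, 9, 3]),
   ([7, 3, 5, 1, 7, 3], [9, 1, 9, 2, 5, 9, 9]),
   ([7, 4, 6, 7, 7], [9, 5, 9, 0, 5, 3, 9]),
   ([7, 4, 6, 7, 4], [9, 9, 5, 5]),
   ([7, 3, 5, 1, 8, 3], [9, 3, 9, 5, 2, 9, 9]),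
   ([7, 3, 6, 8], [9, 1, 9, 0, 9]),
   ([7, 3, 5, 1, 8], [9, 1, 9, 0, 9])]

/-- Words moving the base point. -/
def blockWords1 : List (List ℕ × List ℕ) :=
  [([7, 6, 8, 8], [9, 5, 9, 9, 9, 2, 9, 9]),
   ([7, 6, 7, 7], [9, 0, 9, 5, 5]),
   ([7, 6, 4, 8, 3], [9, 0, 1, 9, 9, 2, 9, 9]),
   ([7, 6, 4, 7, 3], [9, 5, 9, 0, 9, 1, 9]),
   ([7, 4, 6, 7, 5], [9, 0, 2, 9, 9, 9]),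
   ([7, 4, 6, 7, 5, 8], [9, 1, 5, 9, 1, 2, 5]),
   ([7, 5, 7, 6, 1, 8], [9, 9, 1, 9, 9, 3]),
   ([7, 6, 7, 5, 8], [9, 2, 9, 9, 1, 9, 9]),
   ([7, 6, 7, 5], [9, 0, 1, 9, 1, 5, 1, 9]),
   ([7, 5, 5, 7], [9, 3, 3, 9, 3, 5]),
   ([7, 5, 5, 8, 8], [9, 0, 3, 9, 2, 3, 9, 3]),
   ([7, 4, 5, 7], [9, 0, 3, 3, 9, 3, 1, 5]),
   ([7, 5, 5, 7, 7], [9, 1, 9, 3, 9, 5, 3]),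
   ([7, 6, 8, 3], [9, 9, 0, 5, 9, 9, 5, 3]),
   ([7, 6, 7, 3], [9, 5, 9, 1, 9, 5, 3]),
   ([7, 5, 1, 7, 5], [9, 0, 9, 2, 9, 9]),
   ([7, 5, 1, 7, 5, 8], [9, 1, 9, 9, 1, 9, 3]),
   ([7, 4, 5, 7, 6, 8, 0], [9, 9, 5, 9, 3]),
   ([7, 5, 5, 7, 5, 8], [9, 5, 9, 1, 9]),
   ([7, 5, 5, 7, 5], [9, 2, 3, 5, 9, 3, 3]),
   ([7, 3, 6, 8, 4], [9, 2, 3, 9, 0, 3, 9, 3]),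
   ([7, 3, 6, 7, 4], [9, 0, 5, 9, 5, 3, 9]),
   ([7, 5, 1, 8, 3], [9, 0, 5, 9, 9, 0, 9, 3, 9]),
   ([7, 5, 1, 7, 3], [9, 3, 9, 0, 9, 3, 9, 9]),
   ([7, 4, 5, 7, 5], [9, 0, 3, 9, 5, 9, 9]),
   ([7, 4, 5, 7, 5, 8], [9, 9, 3, 9, 9, 9]),
   ([8, 3, 5, 8, 5, 2], [9, 9, 9, 2, 9]),
   ([7, 4, 5, 8, 5, 2], [9, 9, 5, 3, 5, 9]),
   ([7, 3, 5, 1, 7], [9, 0, 9, 3, 9, 5]),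
   ([7, 3, 6, 7, 7], [9, 2, 9, 2, 5, 3, 9, 5]),
   ([7, 6, 6, 8, 3], [9, 0, 9, 9, 3, 9, 1, 5]),
   ([7, 6, 6, 7, 3], [9, 3, 9, 1, 5]),
   ([7, 6, 7, 5, 8, 5], [9, 9, 2, 3, 5, 9]),
   ([7, 3, 6, 7, 5, 8], [9, 1, 9, 5, 9, 5]),
   ([7, 3, 6, 7, 5], [9, 0, 9, 9, 2, 5, 9]),
   ([7, 5, 1, 8, 8], [9, 0, 5, 9, 2, 5, 5, 9]),
   ([7, 5, 1, 7, 7], [9, 1, 9, 5, 3]),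
   ([7, 3, 6, 8, 3], [9, 9, 1, 5, 9, 9]),
   ([7, 3, 6, 7, 3], [9, 9, 5, 2, 5, 9, 5]),
   ([7, 3, 5, 7], [9, 0, 9, 3, 9, 1, 9, 3]),
   ([7, 3, 5, 1, 7, 5], [9, 0, 3, 9, 2, 9]),
   ([7, 3, 5, 1, 7, 5, 8], [9, 5, 9, 1, 9]),
   ([7, 5, 7, 6, 8, 0], [9, 0, 3, 5, 9, 3, 3]),
   ([7, 5, 2, 7, 4], [9, 0, 3, 5, 2, 9, 5, 9]),
   ([7, 4, 6, 8, 3], [9, 0, 9, 9, 3, 9, 1, 5]),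
   ([7, 4, 6, 7, 3], [9, 1, 3, 9, 5]),
   ([7, 3, 5, 7, 6, 8, 0], [9, 1, 5, 2, 9, 2, 9]),
   ([7, 6, 7, 4], [9, 3, 9, 2, 9, 9, 5]),
   ([7, 5, 5, 8, 3], [9, 0, 1, 9, 9, 3, 9, 5]),
   ([7, 5, 5, 7, 3], [9, 3, 9, 5]),
   ([7, 3, 5, 7, 5], [9, 1, 5, 5, 9, 3, 5, 9]),
   ([7, 3, 5, 7, 5, 8], [9, 3, 9, 0, 9, 1, 5]),
   ([8, 4, 5, 8, 5, 2], [9, 9, 2, 9, 9, 5]),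
   ([7, 5, 7, 4], [9, 9, 2, 5, 9, 9, 5]),
   ([7, 4, 5, 8, 3], [9, 9, 0, 5, 5, 9, 3]),
   ([7, 4, 5, 7, 3], [9, 0, 3, 9, 1, 5]),
   ([8, 4, 5, 8, 5], [9, 2, 9, 3, 5, 9, 5]),
   ([7, 4, 6, 8, 8], [9, 3, 9, 0, 2, 3, 9, 3]),
   ([7, 5, 2, 7, 3], [9, 3, 9, 5, 3, 9, 5]),
   ([7, 3, 6, 7, 5, 8, 5], [9, 5, 1, 9, 2, 5]),
   ([7, 5, 1, 7, 6], [9, 1, 5, 9, 5, 1, 3, 9]),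
   ([7, 6, 7, 6], [9, 0, 1, 9, 9, 0, 9]),
   ([7, 6, 7, 5, 5], [9, 5, 5, 9, 9]),
   ([7, 6, 7, 6, 6], [9, 1, 5, 9, 2, 5, 1, 9]),
   ([7, 5, 7, 5, 2], [9, 1, 9, 0, 9, 9]),
   ([7, 5, 7, 3, 6], [9, 9, 5, 1, 9, 3]),
   ([7, 5, 7, 3], [9, 3, 9, 9, 0, 9, 9]),
   ([7, 5, 1, 7, 5, 1], [9, 0, 9, 5, 9, 3]),
   ([7, 5, 7, 6, 1], [9, 9, 5, 2, 3, 9]),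
   ([7, 6, 7, 3, 6], [9, 5, 5, 9, 9, 0, 9]),
   ([7, 5, 7, 4, 5, 5], [9, 9, 5, 9, 5, 3, 9]),
   ([7, 5, 1, 7, 6, 4], [9, 3, 9, 0, 5, 9, 9]),
   ([7, 5, 7, 3, 5], [9, 3, 9, 9, 9, 9, 5]),
   ([7, 5, 2, 7, 6], [9, 0, 3, 9, 0, 9, 9]),
   ([7, 6, 7, 3, 5], [9, 3, 1, 9, 5, 9, 3]),
   ([7, 5, 7, 6, 3], [9, 3, 9, 1, 3, 9, 9]),
   ([7, 3, 6, 7, 7, 6], [9, 5, 9, 9, 3, 9, 5]),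
   ([7, 5, 7, 3, 5, 1], [9, 1, 5, 2, 9, 9, 5, 9]),
   ([7, 6, 7, 6, 4], [9, 3, 9, 5, 2, 9, 5]),
   ([7, 6, 7, 6, 7], [9, 0, 9, 1, 3, 9, 5]),
   ([7, 5, 7, 5, 2, 7], [9, 0, 2, 9, 0, 3, 9, 5]),
   ([7, 5, 7, 5, 2, 7, 5], [9, 0, 9, 1, 9, 9, 3]),
   ([7, 4, 6, 7, 4, 5, 7], [9, 3, 5, 1, 9, 3]),
   ([7, 5, 5, 7, 6, 6, 8], [9, 0, 3, 9, 2, 5, 5]),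
   ([7, 6, 7, 7, 5, 8], [9, 1, 5, 2, 9, 9, 5]),
   ([7, 6, 7, 7, 5], [9, 1, 2, 5, 9, 5]),
   ([7, 5, 7, 6], [9, 3, 9, 9, 0, 9]),
   ([7, 6, 7, 6, 3], [9, 9, 0, 9, 9, 5]),
   ([7, 5, 2, 7, 6, 6], [9, 2, 5, 3, 9, 2, 9]),
   ([7, 5, 1, 7, 5, 2], [9, 0, 2, 9, 9, 2, 9]),
   ([7, 5, 1, 7, 3, 6], [9, 0, 2, 9, 1, 9, 3, 9]),
   ([7, 5, 1, 7, 6, 1], [9, 5, 9, 5, 5, 2, 9]),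
   ([7, 5, 1, 8, 6, 7], [9, 0, 9, 1, 9, 5, 9, 9]),
   ([7, 5, 7, 5, 3, 5], [9, 0, 2, 3, 9, 9, 3, 3]),
   ([7, 5, 7, 5, 4], [9, 5, 9, 3, 9, 5, 3]),
   ([7, 5, 7, 5, 5], [9, 0, 3, 9, 9, 1, 9, 3]),
   ([7, 5, 7, 4, 6], [9, 2, 9, 3, 9, 9]),
   ([7, 6, 8, 5, 7], [9, 0, 9, 9, 2, 9, 9, 9]),
   ([7, 5, 2, 7, 6, 4], [9, 0, 1, 9, 0, 9, 9, 3]),
   ([7, 5, 2, 7, 6, 7], [9, 0, 2, 3, 9, 3])]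

/-- Words moving the base point. -/
def blockWords2 : List (List ℕ × List ℕ) :=
  [([7, 6, 7, 5, 7, 1], [9, 3, 1, 9, 3]),
   ([7, 6, 7, 5, 7, 1, 5], [9, 2, 9, 2, 5, 9]),
   ([8, 6, 8, 8, 6, 8, 4], [9, 9, 2, 9, 9, 5]),
   ([7, 4, 6, 7, 6, 6, 8], [9, 0, 1, 3, 9, 5, 5]),
   ([7, 4, 6, 7, 4, 5, 8], [9, 0, 3, 9, 5, 3]),
   ([7, 4, 6, 7, 4, 5], [9, 0, 1, 2, 5, 9, 5]),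
   ([7, 5, 1, 7, 6, 2], [9, 0, 9, 1, 9, 0, 9]),
   ([7, 6, 7, 4, 5], [9, 0, 2, 5, 9, 5, 9, 9]),
   ([7, 5, 7, 5, 7, 1], [9, 3, 1, 9, 9, 3, 5]),
   ([7, 5, 2, 7, 5, 7], [9, 1, 3, 9, 9, 5, 1, 9]),
   ([7, 6, 6, 8, 6, 8], [9, 0, 2, 5, 9, 9]),
   ([7, 6, 7, 4, 5, 8], [9, 0, 1, 9, 1, 2, 5]),
   ([7, 6, 7, 6, 7, 1], [9, 9, 9, 9, 1, 9]),
   ([7, 5, 7, 5, 7], [9, 2, 9, 3, 9, 5]),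
   ([7, 5, 2, 7, 5, 7, 7], [9, 0, 5, 5, 9, 3, 5]),
   ([7, 5, 7, 3, 5, 8, 3], [9, 0, 3, 9, 5, 5]),
   ([7, 5, 7, 3, 5, 7, 3], [9, 0, 1, 9, 0, 3, 9]),
   ([7, 6, 7, 4, 6], [9, 0, 3, 9, 1, 9, 9, 3]),
   ([7, 5, 7, 4, 5], [9, 0, 5, 3, 9, 0, 9]),
   ([7, 5, 7, 6, 6], [9, 5, 2, 9, 1, 3, 9]),
   ([7, 5, 7, 6, 2], [9, 1, 9, 0, 5, 9]),
   ([7, 5, 2, 7, 4, 6], [9, 1, 5, 9, 1, 3, 9]),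
   ([7, 5, 7, 7, 5], [9, 1, 2, 5, 1, 9, 3]),
   ([7, 5, 7, 7, 5, 8], [9, 5, 2, 9, 5, 5, 9]),
   ([7, 5, 7, 7, 5, 8, 5], [9, 2, 5, 9, 0, 2, 9]),
   ([8, 3, 5, 7, 6, 6, 7], [9, 5, 1, 9, 5, 3, 9]),
   ([8, 6, 8, 6, 1, 8], [9, 0, 9, 1, 3, 9, 9]),
   ([7, 4, 6, 8, 6, 6], [9, 5, 3, 9, 0, 5, 9]),
   ([7, 5, 8, 8, 6, 1], [9, 9, 3, 9, 5, 3]),
   ([7, 6, 7, 6, 8], [9, 1, 9, 9, 5, 9, 5]),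
   ([7, 5, 1, 8, 8, 6], [9, 0, 3, 5, 9, 3, 9]),
   ([7, 5, 8, 8, 5, 1], [9, 0, 3, 9, 2, 9, 9]),
   ([7, 6, 6, 8, 6, 4], [9, 0, 1, 5, 9, 9, 9]),
   ([7, 4, 6, 8, 6, 4], [9, 0, 1, 5, 9, 9, 9]),
   ([7, 5, 7, 3, 5, 7, 4], [9, 1, 9, 9, 1, 9, 9]),
   ([7, 6, 6, 8, 5], [9, 0, 2, 9, 9, 3, 3]),
   ([7, 5, 8, 8, 6], [9, 1, 9, 3, 9, 2, 5]),
   ([7, 5, 8, 8, 5], [9, 0, 5, 9, 3, 9]),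
   ([7, 4, 5, 8, 3, 6], [9, 0, 3, 9, 9, 5]),
   ([7, 4, 5, 8, 6, 4], [9, 0, 3, 9, 2, 9, 9]),
   ([7, 4, 6, 8, 6, 2], [9, 3, 9, 0, 9, 3]),
   ([7, 4, 5, 8, 6, 1], [9, 0, 2, 9, 9, 3, 3]),
   ([7, 5, 7, 5, 8, 4], [9, 9, 9, 2, 5, 3]),
   ([7, 5, 8, 8, 5, 5], [9, 3, 5, 9, 1, 9]),
   ([7, 4, 5, 8, 3, 5], [9, 0, 1, 3, 9, 3, 9]),
   ([7, 4, 5, 8, 5, 4], [9, 1, 5, 9, 1, 9]),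
   ([7, 4, 5, 8, 6, 2], [9, 3, 9, 9, 1, 5]),
   ([7, 5, 8, 8, 6, 1, 7], [9, 0, 1, 9, 3, 9]),
   ([7, 5, 8, 8, 6, 7], [9, 0, 1, 2, 9, 2, 3, 9]),
   ([7, 5, 8, 8, 6, 7, 5], [9, 3, 9, 0, 9, 9]),
   ([7, 6, 7, 4, 6, 8, 6], [9, 9, 5, 9, 3, 3]),
   ([7, 6, 7, 4, 6, 8], [9, 2, 5, 1, 9]),
   ([7, 6, 7, 6, 3, 8], [9, 1, 2, 5, 1, 9]),
   ([7, 4, 5, 8, 5, 5], [9, 9, 3, 9, 5]),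
   ([7, 5, 8, 8, 6, 3], [9, 9, 5, 9, 5]),
   ([7, 5, 5, 8, 6], [9, 0, 2, 9, 9, 3, 3]),
   ([7, 4, 5, 8, 6], [9, 9, 9, 2, 3, 9]),
   ([7, 3, 5, 8, 4], [9, 0, 2, 3, 9, 3, 9, 3]),
   ([7, 4, 5, 8, 6, 6], [9, 9, 0, 3, 3, 9]),
   ([7, 4, 5, 8, 6, 7], [9, 9, 1, 9, 9, 9]),
   ([8, 3, 6, 7, 5, 4], [9, 5, 9, 2, 5, 3]),
   ([7, 3, 6, 8, 6, 7], [9, 0, 2, 9, 5, 5]),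
   ([7, 3, 6, 8, 6], [9, 0, 5, 9, 5, 9, 9, 5]),
   ([8, 3, 5, 8, 5], [9, 2, 9, 2, 9, 9]),
   ([8, 5, 1, 7], [9, 0, 2, 9, 2, 9, 3, 3]),
   ([8, 6, 8], [9, 0, 3, 3, 9, 5, 9, 3]),
   ([8, 6, 8, 8], [9, 3, 3, 9, 3, 9]),
   ([8, 5, 5, 8], [9, 9, 3, 5, 9]),
   ([8, 6, 7, 7], [9, 0, 3, 9, 2, 3, 9]),
   ([8, 6, 4, 8, 3], [9, 1, 5, 9, 1, 5]),
   ([8, 6, 4, 7, 3], [9, 0, 5, 3, 9, 5]),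
   ([8, 4, 6, 7, 5], [9, 1, 9, 9, 9, 2, 5]),
   ([8, 5, 8, 3, 6], [9, 3, 9, 0, 9, 1, 5]),
   ([8, 5, 8, 3], [9, 3, 9, 5, 1, 3, 9]),
   ([8, 5, 2, 8, 3], [9, 1, 9, 9, 9, 2, 5]),
   ([8, 6, 7, 5], [9, 9, 2, 3, 9, 3]),
   ([8, 5, 7], [9, 0, 9, 9, 3, 3]),
   ([8, 5, 8, 8], [9, 3, 9, 9, 1, 5]),
   ([8, 5, 7, 7], [9, 3, 5, 1, 9, 9]),
   ([8, 3, 5, 8, 3], [9, 5, 1, 9, 5]),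
   ([8, 3, 5, 7, 3], [9, 0, 5, 3, 9, 5]),
   ([8, 5, 5, 7], [9, 9, 2, 9, 3, 3]),
   ([8, 5, 5, 8, 8], [9, 5, 5, 9, 5, 5]),
   ([8, 4, 5, 7], [9, 0, 9, 0, 2, 9, 3, 3]),
   ([8, 5, 5, 7, 7], [9, 0, 3, 9, 1, 3, 9]),
   ([8, 6, 8, 3], [9, 3, 9, 0, 5, 5, 9]),
   ([8, 5, 7, 6], [9, 9, 3, 1, 9, 3]),
   ([8, 5, 7, 3], [9, 3, 9, 9, 5]),
   ([8, 5, 8, 3, 5], [9, 2, 9, 0, 9, 1, 9]),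
   ([8, 5, 5, 7, 5, 8], [9, 1, 9, 2, 9, 1, 5]),
   ([8, 5, 5, 7, 5], [9, 1, 9, 9, 9, 2, 5]),
   ([8, 3, 6, 8, 4], [9, 5, 5, 9, 5, 3]),
   ([8, 3, 6, 8], [9, 0, 5, 2, 5, 9, 9, 9]),
   ([8, 3, 6, 7, 4], [9, 1, 3, 9, 0, 3, 9]),
   ([8, 5, 1, 8, 3], [9, 3, 9, 5, 2, 3, 9]),
   ([8, 5, 1, 7, 3], [9, 0, 3, 9, 9, 1, 5]),
   ([8, 4, 5, 7, 5], [9, 9, 3, 9, 2, 3, 5]),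
   ([8, 5, 8, 5, 1], [9, 2, 9, 2, 9, 9, 3]),
   ([8, 5, 8, 5, 2], [9, 0, 3, 1, 9, 9, 5]),
   ([8, 4, 6, 8, 4], [9, 3, 5, 9, 9, 5, 3])]

/-- Words moving the base point. -/
def blockWords3 : List (List ℕ × List ℕ) :=
  [([8, 4, 6, 8], [9, 9, 5, 3, 5, 9]),
   ([8, 4, 6, 7, 4], [9, 3, 9, 1, 3, 9]),
   ([8, 3, 5, 1, 8, 3], [9, 5, 9, 5]),
   ([8, 3, 5, 1, 7, 3], [9, 0, 5, 5, 9, 1, 5]),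
   ([8, 3, 5, 1, 7], [9, 2, 5, 9, 2, 3, 5]),
   ([8, 3, 6, 8, 8], [9, 9, 3, 9, 9]),
   ([8, 5, 1, 8], [9, 1, 3, 5, 9, 0, 9, 5]),
   ([8, 3, 6, 7, 7], [9, 3, 9, 0, 3, 9]),
   ([8, 6, 6, 8, 3], [9, 0, 9, 3, 3, 9, 3]),
   ([8, 6, 6, 7, 3], [9, 5, 9, 2, 9, 2, 5]),
   ([8, 5, 8, 5, 4], [9, 1, 9, 3, 9, 1, 5]),
   ([8, 3, 6, 7, 5, 8], [9, 0, 2, 5, 9, 9, 3]),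
   ([8, 3, 6, 7, 5], [9, 5, 5, 9, 9, 3]),
   ([8, 5, 1, 8, 8], [9, 3, 3, 9, 0, 3, 9]),
   ([8, 5, 1, 7, 7], [9, 0, 3, 9, 2, 3, 9]),
   ([8, 3, 6, 8, 3], [9, 0, 1, 5, 9, 2, 5]),
   ([8, 3, 6, 7, 3], [9, 0, 5, 5, 9, 1, 5]),
   ([8, 3, 5, 7], [9, 5, 9, 3, 5]),
   ([8, 3, 5, 1, 7, 5], [9, 5, 5, 9, 9, 3]),
   ([8, 5, 2, 8, 3, 6], [9, 9, 0, 5, 9]),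
   ([8, 3, 5, 1, 8], [9, 3, 5, 9, 3, 5]),
   ([8, 5, 2, 8, 4], [9, 9, 3, 1, 9, 9]),
   ([8, 5, 2, 7, 4], [9, 3, 9, 0, 3, 9]),
   ([8, 4, 6, 8, 3], [9, 3, 5, 9, 9, 0, 9]),
   ([8, 4, 6, 7, 3], [9, 1, 9, 5, 9]),
   ([8, 5, 2, 8, 6, 4], [9, 1, 9, 0, 1, 5, 9]),
   ([8, 6, 8, 4], [9, 0, 5, 3, 9, 9, 9]),
   ([8, 6, 7, 4], [9, 0, 3, 9, 3, 9]),
   ([8, 5, 5, 8, 3], [9, 0, 3, 5, 1, 9, 9, 9]),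
   ([8, 5, 5, 7, 3], [9, 1, 9, 5, 9]),
   ([8, 3, 5, 7, 5], [9, 9, 5, 3]),
   ([7, 3, 5, 8, 4, 5], [9, 0, 2, 5, 9, 9, 3, 5]),
   ([7, 3, 5, 8, 5, 2], [9, 1, 2, 9, 3, 9, 9, 9]),
   ([8, 5, 8, 4], [9, 0, 5, 5, 5, 9, 9, 9]),
   ([8, 5, 7, 4], [9, 0, 3, 9, 3, 9]),
   ([8, 4, 5, 8, 3], [9, 9, 1, 3, 3, 9, 3]),
   ([8, 4, 5, 7, 3], [9, 1, 9, 1, 5, 2, 9]),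
   ([7, 3, 5, 8, 5], [9, 1, 9, 3, 1, 9, 9, 9]),
   ([8, 4, 6, 8, 8], [9, 9, 9, 0, 9, 9, 9]),
   ([8, 4, 6, 7, 7], [9, 2, 3, 9, 3, 9]),
   ([8, 5, 8, 6, 4], [9, 1, 3, 9, 9, 3, 3]),
   ([8, 5, 7, 7, 5], [9, 9, 9, 5, 9]),
   ([8, 5, 7, 7, 5, 8], [9, 0, 1, 9, 9, 2, 9, 9]),
   ([8, 6, 8, 6, 8, 3], [9, 1, 3, 9, 9, 3, 5]),
   ([8, 6, 7, 7, 5, 8], [9, 9, 9, 2, 9, 1, 2, 5]),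
   ([8, 6, 7, 7, 5], [9, 0, 2, 9, 9, 5, 9]),
   ([8, 4, 6, 8, 8, 5], [9, 9, 1, 5, 2, 9, 3]),
   ([7, 5, 7, 5, 7, 5], [9, 2, 5, 1, 9, 3, 9]),
   ([7, 5, 7, 5, 7, 5, 5], [9, 5, 9, 0, 2, 9, 9]),
   ([7, 6, 8, 8, 6, 7, 4], [9, 5, 1, 9, 3, 9]),
   ([8, 4, 6, 7, 4, 5], [9, 9, 3, 3, 9, 9, 5]),
   ([8, 3, 5, 8, 4], [9, 0, 9, 9, 9, 9, 0, 9]),
   ([8, 3, 5, 7, 4], [9, 3, 9, 2, 3, 9]),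
   ([8, 5, 8, 5], [9, 3, 5, 9, 9, 5, 3]),
   ([8, 5, 5, 7, 6], [9, 1, 2, 9, 9, 1, 5]),
   ([8, 4, 6, 7, 6], [9, 1, 2, 9, 9, 1, 5]),
   ([8, 4, 6, 7, 5, 5], [9, 2, 9, 2, 9, 9, 5]),
   ([8, 4, 6, 7, 6, 6], [9, 0, 2, 5, 9, 1, 9, 9]),
   ([8, 5, 8, 5, 7], [9, 1, 5, 9, 9, 5]),
   ([8, 4, 5, 7, 3, 6], [9, 0, 5, 9, 9, 5]),
   ([8, 5, 5, 7, 5, 1], [9, 0, 5, 9, 3, 9, 3, 1, 5]),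
   ([8, 4, 5, 7, 6, 1], [9, 9, 1, 9, 9, 1, 9]),
   ([8, 3, 5, 7, 6, 7], [9, 1, 9, 3, 9, 5, 5]),
   ([8, 5, 7, 7, 5, 5], [9, 9, 2, 5, 9, 5]),
   ([8, 5, 5, 7, 6, 4], [9, 9, 9, 3, 1, 9]),
   ([8, 4, 5, 7, 3, 5], [9, 0, 9, 1, 2, 5, 9]),
   ([8, 6, 6, 7, 6], [9, 1, 9, 9, 9, 1, 5]),
   ([8, 4, 6, 7, 3, 5], [9, 5, 9, 0, 5, 1, 9]),
   ([8, 4, 5, 7, 6, 3], [9, 1, 5, 9, 9, 1, 5]),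
   ([8, 3, 5, 8, 6, 7], [9, 0, 9, 9, 9, 9]),
   ([8, 6, 7, 7, 6], [9, 0, 1, 5, 9, 9, 5]),
   ([8, 3, 6, 7, 5, 7], [9, 9, 0, 5, 9]),
   ([8, 4, 6, 7, 6, 4], [9, 9, 9, 3, 1, 9]),
   ([7, 5, 5, 8, 6, 4], [9, 0, 1, 3, 9, 3, 9]),
   ([7, 4, 6, 8, 5, 4], [9, 0, 1, 3, 9, 3, 9]),
   ([7, 4, 5, 8, 5, 8, 0], [9, 0, 5, 1, 2, 9, 3]),
   ([7, 3, 6, 8, 6, 8, 3], [9, 9, 5, 9, 3]),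
   ([8, 3, 5, 7, 5, 3, 8], [9, 3, 9, 9, 0, 9, 3]),
   ([8, 3, 5, 7, 5, 3], [9, 2, 5, 2, 9, 3]),
   ([8, 4, 5, 7, 6], [9, 1, 9, 9, 1, 9, 9]),
   ([8, 4, 6, 7, 6, 3], [9, 3, 9, 5, 1, 9, 3]),
   ([8, 5, 7, 7, 6, 1], [9, 0, 3, 9, 9, 2, 5]),
   ([8, 5, 5, 7, 5, 2], [9, 5, 1, 9, 3, 9, 5]),
   ([8, 5, 5, 7, 3, 6], [9, 0, 9, 5, 9]),
   ([8, 6, 8, 6, 7], [9, 0, 3, 9, 3, 9, 3]),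
   ([8, 5, 5, 7, 6, 1], [9, 2, 9, 1, 9, 5]),
   ([8, 6, 6, 7, 3, 6], [9, 5, 9, 0, 9, 5]),
   ([8, 6, 7, 7, 5, 5], [9, 1, 9, 9, 1, 9, 3]),
   ([8, 4, 6, 7, 5, 4], [9, 5, 1, 9, 0, 5, 9]),
   ([8, 4, 5, 7, 5, 4], [9, 0, 9, 9, 3, 3]),
   ([8, 4, 5, 7, 5, 5], [9, 0, 2, 3, 9, 2, 3, 9]),
   ([8, 5, 7, 7, 6], [9, 3, 9, 5, 9, 9, 9]),
   ([8, 3, 6, 8, 5, 7], [9, 1, 9, 0, 9, 0, 9]),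
   ([8, 6, 6, 7, 6, 4], [9, 1, 5, 9, 9, 1, 5]),
   ([7, 3, 5, 7, 6, 6], [9, 3, 9, 0, 1, 3, 9]),
   ([7, 3, 5, 7, 4, 5], [9, 2, 3, 9, 5, 3, 9]),
   ([7, 3, 5, 7, 4, 5, 5], [9, 3, 9, 5, 5, 9]),
   ([7, 6, 7, 3, 6, 8, 5], [9, 0, 9, 9, 1, 9, 3]),
   ([8, 3, 6, 7, 6, 6, 8], [9, 0, 5, 9, 5, 5]),
   ([7, 6, 4, 8, 6, 8, 3], [9, 1, 9, 0, 5, 9])]

/-- Words moving the base point. -/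
def blockWords4 : List (List ℕ × List ℕ) :=
  [([8, 3, 6, 7, 4, 5], [9, 2, 5, 2, 9, 3]),
   ([8, 5, 5, 7, 6, 2], [9, 1, 9, 0, 9, 1, 2, 5]),
   ([7, 6, 8, 8, 6, 3], [9, 0, 1, 3, 9, 3, 9]),
   ([8, 5, 2, 8, 6, 8], [9, 0, 5, 9, 9, 1, 5]),
   ([7, 5, 5, 8, 3, 6], [9, 0, 3, 9, 1, 3, 9]),
   ([7, 6, 8, 8, 6, 3, 7], [9, 2, 9, 1, 9]),
   ([8, 5, 5, 7, 7, 6], [9, 0, 2, 9, 0, 9, 9, 3]),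
   ([7, 6, 8, 8, 6, 8, 3], [9, 1, 3, 5, 9, 0, 9, 9]),
   ([8, 4, 6, 7, 4, 6], [9, 1, 5, 9, 0, 9, 5]),
   ([8, 4, 5, 7, 6, 6], [9, 1, 9, 9, 9, 9, 9]),
   ([8, 4, 5, 7, 6, 2], [9, 0, 9, 0, 9, 9, 2, 9]),
   ([8, 5, 1, 7, 7, 6], [9, 1, 9, 9, 9, 9, 9]),
   ([8, 3, 5, 7, 4, 5], [9, 3, 5, 9, 5]),
   ([7, 4, 5, 8, 3, 5, 7], [9, 1, 2, 9, 9]),
   ([7, 4, 6, 8, 3, 5, 8], [9, 0, 5, 5, 9, 5, 5]),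
   ([7, 4, 6, 8, 6, 4, 8], [9, 9, 0, 9, 9, 5, 5]),
   ([8, 6, 8, 6], [9, 2, 9, 2, 9, 9, 3]),
   ([8, 6, 8, 6, 6], [9, 1, 3, 9, 1, 9, 9]),
   ([8, 5, 2, 8, 6, 6], [9, 2, 3, 3, 9, 5, 9]),
   ([8, 6, 8, 6, 1], [9, 0, 2, 3, 9, 2, 5, 9]),
   ([8, 5, 2, 8, 4, 6], [9, 3, 3, 9, 9, 9, 5]),
   ([8, 5, 2, 8, 5, 5], [9, 9, 5, 2, 5, 9]),
   ([8, 6, 8, 6, 4], [9, 1, 2, 9, 1, 5, 9]),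
   ([7, 6, 8, 8, 6, 8, 4], [9, 2, 3, 5, 2, 9, 5]),
   ([8, 5, 2, 8, 5], [9, 0, 1, 3, 3, 9, 3, 9]),
   ([8, 5, 8, 4, 6], [9, 2, 9, 2, 5, 1, 9]),
   ([8, 5, 8, 4, 5], [9, 9, 1, 3, 9, 1, 5]),
   ([8, 6, 8, 6, 2], [9, 9, 9, 2, 9, 3]),
   ([8, 5, 8, 6, 1], [9, 0, 3, 5, 9, 9, 5, 5]),
   ([8, 5, 8, 6, 2], [9, 0, 9, 2, 9, 9, 9]),
   ([8, 3, 5, 8, 6, 1], [9, 3, 3, 9, 2, 3, 5]),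
   ([8, 6, 4, 8, 5], [9, 2, 9, 9, 5]),
   ([8, 6, 4, 8, 5, 5], [9, 0, 9, 9, 5, 9]),
   ([8, 5, 8, 5, 8, 3], [9, 5, 9, 9, 3, 9, 3]),
   ([7, 5, 5, 8, 6, 7, 7], [9, 0, 5, 9, 3, 9]),
   ([8, 5, 8, 5, 5], [9, 9, 5, 9, 9, 9]),
   ([8, 3, 5, 1, 8, 6], [9, 0, 1, 3, 3, 9, 3, 3]),
   ([8, 5, 1, 8, 6], [9, 1, 2, 9, 2, 9, 5, 9]),
   ([8, 5, 8, 6], [9, 2, 9, 3, 3, 9, 3]),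
   ([8, 5, 8, 6, 6], [9, 0, 9, 0, 9, 5, 9]),
   ([8, 5, 8, 6, 7], [9, 9, 3, 9, 3, 9, 3]),
   ([7, 3, 6, 7, 5, 4], [9, 9, 9, 9, 3, 5]),
   ([7, 3, 5, 7, 5, 1], [9, 9, 0, 9, 9]),
   ([8, 4, 6, 8, 6], [9, 9, 2, 9, 2, 5, 9]),
   ([7, 5, 5, 7, 6], [9, 5, 5, 9, 9, 0, 9]),
   ([7, 4, 6, 7, 6], [9, 0, 3, 9, 9, 9, 3]),
   ([7, 4, 6, 7, 5, 5], [9, 0, 2, 5, 9, 3]),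
   ([7, 4, 6, 7, 6, 6], [9, 0, 1, 5, 9, 2, 5]),
   ([7, 4, 5, 7, 5, 2], [9, 0, 3, 5, 9, 5]),
   ([7, 4, 5, 7, 3, 6], [9, 1, 5, 5, 9]),
   ([7, 5, 5, 7, 5, 1], [9, 2, 3, 3, 9, 3, 9]),
   ([7, 4, 5, 7, 6, 1], [9, 1, 3, 9, 5, 9, 5]),
   ([7, 4, 6, 7, 3, 6], [9, 0, 2, 3, 3, 9, 9]),
   ([7, 5, 7, 7, 5, 5], [9, 9, 2, 5, 9, 9]),
   ([7, 5, 5, 7, 6, 4], [9, 5, 5, 5, 9, 9]),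
   ([7, 4, 5, 7, 3, 5], [9, 3, 5, 9, 1, 9]),
   ([7, 6, 6, 7, 6], [9, 0, 2, 9, 5, 2, 9, 9]),
   ([7, 4, 6, 7, 3, 5], [9, 2, 5, 5, 2, 9]),
   ([7, 4, 5, 7, 6, 3], [9, 2, 5, 1, 9, 3]),
   ([7, 4, 5, 7, 6, 4], [9, 5, 5, 9]),
   ([7, 6, 7, 7, 6], [9, 0, 5, 9, 2, 5, 3]),
   ([7, 6, 7, 7, 6, 3], [9, 3, 3, 9, 0, 2, 9]),
   ([7, 4, 6, 7, 6, 4], [9, 0, 5, 1, 9, 2, 9]),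
   ([7, 4, 6, 7, 6, 7], [9, 9, 9, 9, 2, 5]),
   ([7, 4, 5, 7, 5, 2, 7], [9, 0, 3, 9, 9, 5, 3]),
   ([8, 5, 8, 5, 8, 8, 6], [9, 5, 3, 9, 1, 5]),
   ([7, 5, 2, 7, 5, 7, 7, 5], [9, 0, 5, 9, 5, 3]),
   ([8, 4, 6, 8, 6, 8, 3], [9, 5, 1, 3, 9, 3]),
   ([7, 3, 5, 7, 5, 3, 8], [9, 5, 9, 0, 5, 9, 5]),
   ([7, 3, 5, 7, 5, 3], [9, 2, 9, 2, 3, 9, 9]),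
   ([7, 4, 5, 7, 6], [9, 0, 1, 9, 5, 9, 2, 9]),
   ([7, 4, 6, 7, 6, 3], [9, 9, 5, 5, 9]),
   ([7, 5, 7, 7, 6, 1], [9, 1, 5, 9, 3]),
   ([7, 5, 5, 7, 5, 2], [9, 3, 5, 9, 3, 3]),
   ([7, 5, 5, 7, 3, 6], [9, 3, 9, 9, 3, 9]),
   ([7, 4, 5, 7, 5, 1], [9, 9, 3, 1, 9, 5]),
   ([7, 5, 5, 7, 6, 1], [9, 3, 5, 2, 9, 5]),
   ([7, 6, 6, 7, 3, 6], [9, 5, 1, 3, 9]),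
   ([7, 6, 7, 7, 5, 5], [9, 0, 5, 5, 5, 9]),
   ([7, 4, 6, 7, 5, 4], [9, 0, 2, 5, 5, 9]),
   ([7, 4, 5, 7, 5, 4], [9, 0, 5, 3, 9, 0, 9]),
   ([7, 4, 5, 7, 5, 5], [9, 2, 5, 9, 1, 5]),
   ([7, 5, 7, 7, 6], [9, 5, 9, 3]),
   ([7, 5, 7, 7, 6, 3], [9, 2, 5, 3, 9]),
   ([7, 6, 6, 7, 6, 4], [9, 0, 5, 5, 9]),
   ([7, 6, 6, 7, 6, 7], [9, 9, 5, 9, 3, 3]),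
   ([7, 4, 6, 7, 5, 7, 1], [9, 0, 3, 5, 1, 9, 3, 3]),
   ([7, 3, 5, 7, 5, 7, 7], [9, 3, 1, 9, 1, 9]),
   ([7, 3, 5, 7, 5, 7], [9, 1, 3, 9, 5, 3]),
   ([7, 3, 5, 7, 5, 7, 5], [9, 2, 5, 5, 2, 9, 3]),
   ([7, 3, 6, 7, 4, 5, 8], [9, 3, 9, 0, 1, 9, 3]),
   ([7, 3, 6, 7, 4, 5], [9, 9, 1, 9, 9, 5, 3]),
   ([7, 5, 5, 7, 6, 2], [9, 1, 9, 3, 9, 5]),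
   ([7, 4, 5, 7, 5, 7, 1], [9, 0, 9, 5, 9, 5, 3]),
   ([7, 6, 6, 7, 5, 7], [9, 9, 0, 5, 9, 5, 3]),
   ([8, 6, 4, 8, 6, 8], [9, 9, 1, 5]),
   ([7, 4, 6, 7, 6, 7, 1], [9, 9, 9, 3, 5, 1, 9]),
   ([7, 4, 5, 7, 5, 7], [9, 3, 9, 0, 9, 5, 3]),
   ([7, 6, 6, 7, 5, 7, 7], [9, 2, 5, 1, 9, 9, 9]),
   ([7, 3, 5, 7, 6, 7, 6, 8], [9, 0, 9, 1, 9, 3, 3])]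

/-- Words moving the base point. -/
def blockWords5 : List (List ℕ × List ℕ) :=
  [([7, 3, 5, 7, 6, 7, 6], [9, 1, 9, 2, 9, 3]),
   ([7, 4, 6, 7, 4, 6], [9, 5, 9, 2, 5, 3]),
   ([7, 4, 5, 7, 6, 6], [9, 1, 5, 9, 3]),
   ([7, 4, 5, 7, 6, 2], [9, 3, 3, 9, 3, 1, 9]),
   ([7, 5, 1, 7, 7, 6], [9, 0, 5, 9, 3]),
   ([7, 5, 8, 8, 6, 1, 8], [9, 9, 9, 5, 9, 5]),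
   ([8, 3, 6, 8, 6], [9, 0, 3, 9, 0, 5, 9]),
   ([8, 3, 6, 8, 6, 6], [9, 1, 3, 9, 3]),
   ([8, 6, 4, 8, 6, 6], [9, 2, 3, 9, 3]),
   ([7, 4, 6, 7, 6, 8], [9, 0, 2, 5, 9, 5]),
   ([8, 5, 5, 8, 8, 6], [9, 9, 9, 5, 2, 9, 9]),
   ([8, 6, 4, 8, 6, 4], [9, 2, 3, 5, 9, 1, 9]),
   ([8, 3, 6, 8, 6, 4], [9, 5, 5, 5, 9, 9]),
   ([8, 3, 5, 8, 4, 6], [9, 0, 3, 1, 9, 3]),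
   ([8, 3, 5, 8, 4, 5], [9, 3, 9, 1, 9, 9, 3]),
   ([8, 3, 5, 8, 3, 6], [9, 0, 1, 2, 9]),
   ([8, 3, 5, 8, 6, 4], [9, 0, 2, 9]),
   ([8, 3, 6, 8, 6, 2], [9, 5, 5, 2, 9, 5, 5]),
   ([8, 6, 4, 8, 3, 6], [9, 3, 1, 5, 9, 9]),
   ([8, 3, 5, 8, 4, 5, 5], [9, 3, 5, 2, 9, 5]),
   ([8, 3, 5, 8, 3, 5], [9, 1, 9]),
   ([8, 3, 5, 8, 5, 4], [9, 3, 5, 1, 9, 2, 9]),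
   ([8, 3, 5, 8, 6, 2], [9, 2, 9, 9, 1, 5]),
   ([7, 5, 8, 6, 8, 6, 1], [9, 0, 1, 9, 9, 2, 9]),
   ([7, 5, 7, 6, 7, 5, 4], [9, 5, 2, 9, 2, 9, 5]),
   ([7, 5, 7, 6, 7, 6, 2], [9, 1, 5, 1, 9, 9, 5]),
   ([7, 4, 6, 7, 4, 6, 8, 6], [9, 2, 3, 9, 3, 9, 9]),
   ([7, 4, 6, 7, 4, 6, 8], [9, 3, 9, 5, 5]),
   ([7, 4, 6, 7, 6, 3, 8], [9, 1, 3, 9, 5, 3]),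
   ([8, 3, 5, 8, 5, 5], [9, 1, 5, 9, 3]),
   ([7, 6, 4, 7, 6, 4, 7], [9, 3, 1, 5, 9]),
   ([8, 5, 5, 8, 6], [9, 1, 9, 1, 9, 1, 5]),
   ([8, 3, 5, 8, 6], [9, 9, 2, 9, 1, 2, 5]),
   ([8, 3, 5, 8, 6, 6], [9, 5, 9, 5, 2, 9]),
   ([8, 3, 5, 1, 7, 6], [9, 0, 9, 1, 9, 9]),
   ([8, 3, 6, 7, 6], [9, 0, 9, 1, 9, 9]),
   ([8, 3, 6, 7, 5, 5], [9, 5, 1, 9, 5, 5, 9]),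
   ([8, 3, 6, 7, 6, 6], [9, 5, 2, 9, 3]),
   ([7, 3, 5, 8, 5, 7], [9, 1, 9, 3, 3]),
   ([8, 3, 5, 7, 3, 6], [9, 9, 0, 3, 9, 3]),
   ([8, 6, 4, 7, 6, 2], [9, 3, 3, 9, 0, 9]),
   ([8, 3, 5, 7, 6, 1], [9, 0, 5, 3, 9, 5]),
   ([8, 3, 6, 7, 3, 6], [9, 0, 3, 1, 9]),
   ([8, 6, 4, 7, 5, 7], [9, 9, 0, 5, 9]),
   ([7, 3, 6, 8, 6, 7, 7], [9, 0, 3, 5, 9]),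
   ([8, 3, 5, 7, 3, 5], [9, 0, 3, 9]),
   ([8, 6, 4, 7, 6], [9, 9, 9, 9, 3, 5]),
   ([7, 6, 6, 8, 5, 7], [9, 5, 2, 9, 1, 3, 5]),
   ([8, 3, 5, 7, 6, 3], [9, 5, 1, 9, 5, 5, 9]),
   ([8, 4, 6, 7, 7, 6], [9, 3, 1, 3, 9, 3]),
   ([8, 3, 5, 7, 3, 5, 1], [9, 0, 1, 3, 9]),
   ([8, 3, 6, 7, 6, 4], [9, 0, 2, 3, 9]),
   ([8, 3, 5, 7, 5, 4], [9, 0, 3, 1, 9]),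
   ([8, 3, 5, 7, 6, 2], [9, 3, 3, 9, 0, 9]),
   ([8, 6, 8, 3, 6], [9, 2, 9, 5, 9]),
   ([8, 3, 5, 7, 6], [9, 9, 9, 9, 3, 5]),
   ([8, 3, 6, 7, 6, 3], [9, 5, 2, 9, 9, 9]),
   ([8, 6, 4, 7, 6, 6], [9, 2, 3, 5, 9, 2, 5]),
   ([8, 6, 4, 7, 6, 1], [9, 0, 5, 3, 9, 5]),
   ([8, 3, 5, 1, 7, 3, 6], [9, 0, 3, 1, 9]),
   ([8, 6, 4, 7, 5, 2], [9, 0, 9, 1, 9, 9]),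
   ([7, 5, 5, 8, 6, 7], [9, 9, 1, 9, 9, 9]),
   ([7, 4, 5, 8, 6, 7, 6], [9, 1, 5, 9, 2, 5, 5]),
   ([8, 3, 5, 7, 5, 5], [9, 5, 2, 9, 9, 9]),
   ([8, 3, 5, 7, 4, 6], [9, 2, 9, 9, 0, 9, 3]),
   ([7, 4, 6, 8, 5, 7], [9, 0, 9, 3, 1, 9, 3]),
   ([8, 6, 4, 7, 6, 4], [9, 9, 1, 9, 9, 9]),
   ([8, 5, 1, 8, 3, 6], [9, 9, 2, 5, 9, 9]),
   ([8, 6, 4, 7, 5, 1], [9, 0, 9, 3, 3]),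
   ([7, 6, 4, 8, 6, 8], [9, 0, 2, 5, 2, 3, 9]),
   ([7, 3, 5, 8, 5, 8, 4], [9, 2, 5, 9, 3]),
   ([8, 3, 6, 7, 4, 6], [9, 0, 3, 1, 3, 9, 3]),
   ([8, 3, 5, 7, 6, 6], [9, 2, 3, 5, 9, 2, 5]),
   ([7, 3, 6, 8, 4, 6], [9, 0, 9, 9, 0, 3, 9, 0, 9]),
   ([7, 3, 6, 8, 6, 2], [9, 2, 9, 0, 9, 3, 9, 9]),
   ([7, 3, 5, 8, 5, 8], [9, 1, 5, 3, 9]),
   ([7, 3, 5, 7, 3, 5], [9, 2, 5, 9, 1, 9, 5]),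
   ([7, 3, 5, 7, 3, 5, 8], [9, 1, 5, 9, 3, 5, 9]),
   ([7, 3, 5, 8, 5, 8, 3], [9, 3, 9, 9, 9, 3]),
   ([7, 6, 7, 6, 8, 8, 6], [9, 1, 3, 3, 9, 5, 3]),
   ([7, 3, 5, 1, 7, 6], [9, 0, 9, 9, 0, 9]),
   ([7, 3, 6, 7, 6], [9, 3, 9, 0, 9, 5, 5]),
   ([7, 3, 6, 7, 5, 5], [9, 1, 3, 9, 0, 3, 9]),
   ([7, 3, 6, 7, 6, 6], [9, 1, 5, 9, 3, 1, 9, 9]),
   ([7, 3, 5, 7, 5, 2], [9, 0, 3, 3, 9, 5, 9]),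
   ([7, 3, 5, 7, 3, 6], [9, 0, 2, 9, 9, 3, 3]),
   ([7, 6, 4, 7, 6, 2], [9, 0, 3, 1, 9, 9]),
   ([7, 3, 5, 7, 6, 1], [9, 1, 3, 9, 0, 5, 9]),
   ([7, 3, 6, 7, 3, 6], [9, 0, 2, 9, 3, 3, 9, 9]),
   ([7, 3, 5, 1, 7, 6, 4], [9, 0, 5, 9, 3, 9, 9]),
   ([7, 6, 4, 7, 6], [9, 0, 1, 3, 9, 2, 9]),
   ([7, 3, 6, 7, 3, 5], [9, 9, 0, 9, 3, 5]),
   ([7, 3, 5, 7, 6, 3], [9, 3, 9, 3, 9, 2, 9]),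
   ([7, 4, 6, 7, 7, 6], [9, 0, 9, 1, 9, 5, 9]),
   ([7, 3, 5, 7, 3, 5, 1], [9, 2, 9, 3, 5, 9, 3]),
   ([7, 3, 6, 7, 6, 4], [9, 9, 5, 3, 5, 9]),
   ([7, 3, 6, 7, 6, 7], [9, 9, 0, 1, 9, 9]),
   ([7, 3, 5, 7, 5, 2, 7], [9, 0, 1, 3, 9, 5, 3]),
   ([7, 3, 6, 7, 4, 6, 8], [9, 3, 1, 5, 9, 3]),
   ([8, 5, 8, 8, 5, 7, 7], [9, 0, 9, 5, 3, 9, 3])]

/-- Words moving the base point. -/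
def blockWords6 : List (List ℕ × List ℕ) :=
  [([7, 3, 6, 8, 6, 8, 6], [9, 0, 1, 5, 9]),
   ([7, 5, 7, 5, 3, 8], [9, 1, 5, 9]),
   ([7, 5, 7, 5, 3], [9, 2, 3, 9, 9, 0, 9]),
   ([7, 3, 5, 7, 6], [9, 9, 3, 9, 3, 9]),
   ([7, 3, 6, 7, 6, 3], [9, 1, 5, 3, 9, 3, 9]),
   ([7, 6, 4, 7, 6, 6], [9, 1, 9, 5, 2, 9, 5]),
   ([7, 6, 4, 7, 6, 1], [9, 0, 3, 9, 1, 2, 9]),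
   ([7, 3, 5, 1, 7, 3, 6], [9, 0, 3, 9, 9, 5, 9]),
   ([7, 6, 4, 7, 5, 2], [9, 0, 2, 9, 2, 9, 9]),
   ([7, 6, 4, 7, 3, 6], [9, 9, 3, 9, 5, 5, 9]),
   ([8, 5, 8, 6, 7, 6], [9, 0, 1, 3, 9, 9, 3]),
   ([7, 3, 5, 7, 5, 4], [9, 3, 5, 9, 9, 5, 9]),
   ([7, 3, 5, 7, 5, 5], [9, 2, 5, 9, 5, 1, 9, 9]),
   ([7, 3, 5, 7, 4, 6], [9, 0, 2, 5, 9, 9, 9]),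
   ([8, 6, 8, 5, 7], [9, 0, 3, 9, 0, 5, 9, 3]),
   ([7, 6, 4, 7, 6, 4], [9, 0, 2, 9, 9, 3, 5]),
   ([7, 6, 4, 7, 6, 7], [9, 2, 9, 1, 9, 9, 9]),
   ([7, 3, 6, 7, 5, 7, 1], [9, 2, 9, 1, 9, 9, 9]),
   ([7, 6, 8, 8, 5, 7, 6], [9, 9, 1, 2, 9, 3]),
   ([7, 6, 7, 6, 6, 8, 6], [9, 0, 2, 3, 5, 9, 5]),
   ([7, 6, 7, 6, 6, 8], [9, 0, 9, 2, 5]),
   ([7, 6, 4, 7, 5, 1], [9, 0, 1, 9, 9, 3, 9, 9]),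
   ([7, 3, 5, 7, 5, 7, 1], [9, 3, 9, 5, 5]),
   ([7, 6, 4, 7, 5, 7], [9, 0, 3, 1, 9, 5, 5]),
   ([8, 6, 6, 8, 6, 8], [9, 1, 9, 2, 9, 3, 9]),
   ([7, 3, 6, 7, 6, 7, 1], [9, 9, 1, 9, 3, 5]),
   ([7, 4, 5, 7, 6, 7, 6], [9, 0, 9, 2, 9, 1, 9]),
   ([7, 3, 5, 7, 3, 5, 8, 3], [9, 2, 3, 9, 5, 9]),
   ([8, 6, 6, 8, 6, 8, 8], [9, 0, 5, 1, 9, 5]),
   ([7, 3, 6, 7, 4, 6], [9, 2, 5, 9, 1, 9, 9]),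
   ([7, 3, 5, 7, 6, 2], [9, 3, 9, 0, 1, 9]),
   ([7, 5, 5, 7, 7, 6], [9, 3, 9, 0, 1, 3, 9]),
   ([7, 6, 7, 6, 6, 7], [9, 0, 5, 9, 0, 9]),
   ([8, 4, 6, 8, 6, 6], [9, 1, 3, 9, 5, 5, 9]),
   ([8, 5, 8, 8, 6, 1], [9, 0, 2, 3, 9, 9, 0, 9]),
   ([7, 3, 6, 7, 6, 8], [9, 3, 9, 5, 2, 9, 3]),
   ([8, 5, 1, 8, 8, 6], [9, 0, 2, 9, 0, 2, 9]),
   ([8, 5, 8, 8, 5, 1], [9, 0, 9, 0, 9]),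
   ([8, 6, 6, 8, 6, 4], [9, 9, 5, 5, 9, 2, 9]),
   ([8, 4, 6, 8, 6, 4], [9, 0, 3, 9, 0, 9, 9]),
   ([8, 3, 6, 8, 6, 8, 5], [9, 9, 3, 9, 9, 5, 3]),
   ([8, 6, 6, 8, 5], [9, 9, 9, 2, 5]),
   ([8, 5, 8, 8, 6], [9, 1, 3, 9, 0, 5, 3, 9]),
   ([8, 5, 8, 8, 5], [9, 0, 9, 0, 9, 9]),
   ([8, 4, 5, 8, 3, 6], [9, 3, 1, 9, 1, 9]),
   ([8, 4, 5, 8, 6, 4], [9, 2, 3, 9, 9]),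
   ([8, 4, 6, 8, 6, 2], [9, 2, 9, 9, 5, 9]),
   ([8, 4, 5, 8, 6, 1], [9, 1, 5, 5, 9, 0, 9]),
   ([8, 6, 6, 8, 3, 6], [9, 5, 3, 9, 9, 9]),
   ([8, 5, 8, 8, 5, 5], [9, 1, 5, 9, 1, 5, 9]),
   ([8, 4, 5, 8, 3, 5], [9, 0, 9, 5, 9, 9, 9]),
   ([8, 4, 5, 8, 5, 4], [9, 1, 9, 5, 1, 9]),
   ([8, 4, 5, 8, 6, 2], [9, 0, 9, 1, 9, 5, 5]),
   ([8, 5, 8, 5, 5, 8, 6], [9, 1, 3, 9, 9, 5]),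
   ([8, 5, 8, 8, 6, 7], [9, 2, 9, 5, 5, 9]),
   ([8, 5, 8, 8, 6, 7, 5], [9, 5, 5, 9, 2, 3, 9]),
   ([7, 3, 6, 7, 6, 3, 8], [9, 2, 3, 5, 9, 3]),
   ([8, 4, 5, 8, 5, 5], [9, 3, 9, 1, 5, 2, 9, 5]),
   ([8, 5, 8, 8, 6, 3], [9, 5, 9, 1, 9, 9, 5]),
   ([8, 4, 5, 8, 6], [9, 5, 5, 9, 0, 1, 9]),
   ([8, 4, 5, 8, 6, 6], [9, 1, 2, 9, 1, 2, 9]),
   ([7, 5, 7, 6, 7], [9, 3, 1, 9, 3]),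
   ([7, 5, 7, 6, 1, 7], [9, 1, 3, 9, 3]),
   ([7, 5, 7, 6, 1, 7, 5], [9, 0, 5, 9, 9, 3]),
   ([7, 4, 5, 7, 5, 7, 5, 2], [9, 3, 9, 1, 2, 5]),
   ([7, 4, 5, 7, 6, 6, 8], [9, 3, 5, 9, 9, 1, 5]),
   ([7, 6, 8, 8, 6], [9, 9, 2, 3, 9, 5, 5]),
   ([7, 6, 7, 6, 7, 3], [9, 1, 9, 2, 9, 9, 5]),
   ([7, 4, 6, 8, 4, 6], [9, 0, 3, 1, 9, 3, 9]),
   ([7, 5, 1, 7, 6, 6], [9, 1, 9, 0, 5, 9, 9, 3]),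
   ([7, 5, 1, 7, 6, 7], [9, 2, 5, 5, 9, 9, 5]),
   ([7, 5, 7, 7, 6, 1, 8], [9, 5, 9, 9, 2, 9, 5]),
   ([7, 4, 6, 7, 5, 3, 8], [9, 1, 5, 9, 1, 2, 9, 3]),
   ([7, 4, 6, 7, 5, 3], [9, 3, 9, 9, 1, 5]),
   ([7, 5, 7, 7, 6, 7], [9, 2, 3, 9, 1, 5]),
   ([7, 5, 7, 7, 5, 7, 1], [9, 1, 3, 9, 1, 2, 5]),
   ([7, 6, 7, 3, 6, 7], [9, 0, 3, 9, 9, 5, 9, 5]),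
   ([7, 5, 5, 8, 5], [9, 1, 3, 9, 0, 9, 5]),
   ([7, 5, 5, 8, 5, 8], [9, 0, 2, 5, 2, 9, 3]),
   ([7, 5, 5, 8, 5, 8, 5], [9, 9, 0, 3, 9, 9, 5]),
   ([7, 3, 5, 1, 7, 6, 6], [9, 9, 3, 9, 2, 9]),
   ([7, 3, 5, 7, 3, 6, 7], [9, 3, 9, 5, 3]),
   ([8, 3, 6, 8, 5, 4], [9, 0, 9]),
   ([8, 3, 5, 8, 5, 8, 0], [9, 2, 9, 2, 5]),
   ([7, 4, 5, 8, 6, 6, 8], [9, 3, 5, 2, 9, 9]),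
   ([7, 5, 8, 8, 5, 8], [9, 5, 5, 9, 5]),
   ([7, 4, 6, 8, 3, 5], [9, 1, 5, 9, 1, 9]),
   ([7, 4, 5, 8, 5, 8], [9, 5, 1, 2, 9, 3]),
   ([7, 4, 5, 8, 5, 8, 8], [9, 1, 5, 1, 9, 3, 9]),
   ([7, 5, 7, 5, 2, 7, 7], [9, 3, 1, 3, 9, 9, 3]),
   ([7, 3, 6, 8, 6, 8, 5, 5], [9, 9, 5, 9, 3]),
   ([7, 5, 1, 8, 8, 5], [9, 9, 5, 9, 1, 5]),
   ([7, 6, 8, 5], [9, 9, 3, 9, 5, 5, 5, 9]),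
   ([7, 6, 8, 4, 5], [9, 2, 9, 9, 0, 9, 5]),
   ([7, 4, 6, 8, 3, 6], [9, 2, 5, 2, 9, 9]),
   ([7, 5, 7, 5, 8, 8], [9, 3, 1, 5, 9, 3]),
   ([7, 5, 7, 5, 4, 7, 3], [9, 1, 9, 3, 1, 9]),
   ([7, 5, 7, 5, 7, 7], [9, 1, 2, 9, 5, 2, 9]),
   ([7, 5, 7, 5, 4, 8, 3], [9, 0, 2, 3, 9, 9, 9]),
   ([7, 5, 8, 8, 6, 3, 7], [9, 2, 9, 1, 9])]

/-- Words moving the base point. -/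
def blockWords7 : List (List ℕ × List ℕ) :=
  [([7, 3, 5, 7, 3, 5, 8, 4], [9, 0, 1, 5, 9, 5, 5]),
   ([7, 3, 6, 7, 7, 6, 8], [9, 9, 5]),
   ([7, 5, 7, 5, 5, 8], [9, 0, 1, 5, 2, 9]),
   ([7, 5, 7, 5, 1, 7], [9, 9, 9, 9, 1, 9]),
   ([7, 6, 7, 5, 3], [9, 0, 2, 5, 9, 9, 1, 9]),
   ([7, 4, 6, 7, 4, 6, 7], [9, 1, 9, 9, 0, 9]),
   ([7, 4, 5, 7, 5, 5, 7], [9, 1, 2, 9, 3, 9, 9]),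
   ([7, 6, 8, 5, 2], [9, 1, 9, 1, 5, 9, 5, 3]),
   ([7, 5, 1, 8, 6, 8], [9, 1, 3, 5, 2, 9]),
   ([7, 5, 7, 6, 2, 7], [9, 0, 3, 1, 9, 3]),
   ([7, 6, 8, 5, 8], [9, 5, 2, 5, 9]),
   ([7, 5, 7, 4, 6, 7], [9, 5, 3, 5, 9, 3, 3]),
   ([7, 5, 8, 6, 8], [9, 3, 1, 5, 9]),
   ([7, 5, 2, 8, 5, 8], [9, 5, 9, 1, 9]),
   ([7, 5, 2, 7, 6, 8], [9, 1, 5, 9, 5, 9, 9]),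
   ([7, 5, 7, 5, 4, 8], [9, 9, 9, 9, 3]),
   ([7, 6, 7, 6, 4, 8], [9, 0, 5, 9, 9, 3, 9]),
   ([7, 4, 6, 8, 3, 5, 7], [9, 0, 9, 9, 5]),
   ([7, 5, 7, 3, 5, 8], [9, 9, 9, 9, 3]),
   ([7, 3, 5, 8, 5, 2, 8], [9, 5, 3, 9]),
   ([7, 3, 5, 7, 4, 6, 7], [9, 1, 3, 3, 9, 3, 9]),
   ([7, 6, 4, 7, 6, 6, 7], [9, 0, 2, 9, 3, 9, 3]),
   ([7, 6, 6, 7, 6, 7, 3], [9, 1, 2, 5, 1, 9, 3]),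
   ([7, 5, 7, 6, 7, 3, 6], [9, 5, 1, 9, 5]),
   ([7, 5, 7, 6, 7, 3], [9, 1, 9]),
   ([7, 5, 7, 6, 8], [9, 3, 5, 9, 3, 3]),
   ([7, 5, 8, 4, 6, 8], [9, 9, 1, 5, 9]),
   ([7, 6, 7, 5, 7], [9, 2, 3, 9, 3]),
   ([7, 5, 1, 7, 5, 7], [9, 1, 3, 9, 3]),
   ([7, 3, 5, 1, 8, 5], [9, 2, 5, 9, 2, 9, 9, 5]),
   ([7, 3, 5, 1, 8, 5, 8], [9, 1, 5, 5, 5, 9]),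
   ([7, 3, 6, 8, 4, 6, 8], [9, 1, 3, 5, 1, 9]),
   ([7, 6, 7, 3, 6, 8], [9, 9, 9, 2, 9, 9]),
   ([7, 4, 5, 8, 5, 4, 7], [9, 0, 9, 2, 5]),
   ([7, 3, 5, 8, 5, 8, 0], [9, 0, 1, 5, 3, 9]),
   ([7, 4, 6, 8, 3, 6, 7], [9, 1, 9, 1, 5]),
   ([7, 5, 7, 3, 5, 1, 8], [9, 2, 3, 3, 9, 5]),
   ([7, 4, 6, 8, 6, 8], [9, 1, 5, 1, 9, 3]),
   ([7, 5, 7, 5, 1, 7, 7], [9, 3, 9, 9, 9, 1, 5]),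
   ([7, 4, 6, 8, 6, 8, 5], [9, 9, 1, 9, 3, 5]),
   ([7, 4, 6, 8, 6, 8, 8], [9, 2, 5, 9, 3, 5]),
   ([7, 5, 2, 7, 6, 8, 5], [9, 0, 3, 3, 9, 5, 5]),
   ([8, 4, 5, 8, 6, 8, 5], [9, 9, 5, 3]),
   ([7, 5, 7, 5, 1, 7, 5], [9, 0, 1, 2, 9, 9, 9, 3]),
   ([7, 4, 6, 8, 5, 5], [9, 0, 3, 9, 3, 1, 9]),
   ([7, 4, 6, 8, 5, 5, 8], [9, 0, 5, 2, 9, 9, 3]),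
   ([7, 4, 6, 8, 5], [9, 0, 2, 9, 9, 3, 3]),
   ([7, 6, 8, 8, 5], [9, 0, 1, 3, 9, 5, 9]),
   ([7, 4, 6, 8, 5, 2], [9, 0, 9, 2, 9, 3, 3]),
   ([7, 6, 7, 6, 8, 4], [9, 5, 9, 2, 9, 5]),
   ([7, 4, 6, 8, 5, 1], [9, 9, 9, 1, 3, 9]),
   ([7, 4, 6, 8, 6, 6, 7], [9, 0, 1, 9, 2, 3, 9]),
   ([7, 6, 8, 8, 6, 7], [9, 0, 1, 2, 9, 3, 9]),
   ([7, 6, 8, 8, 6, 7, 5], [9, 2, 3, 9, 5, 9]),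
   ([7, 5, 1, 7, 5, 8, 6], [9, 0, 1, 9, 9, 3, 5]),
   ([7, 5, 5, 8, 5, 5], [9, 1, 9, 3, 1, 9, 5]),
   ([7, 5, 5, 8, 6, 6], [9, 0, 9, 1, 9, 3, 9]),
   ([7, 4, 6, 8, 4, 5], [9, 0, 9, 1, 9, 9, 9, 9]),
   ([7, 5, 5, 8, 6, 6, 7], [9, 2, 9, 0, 5, 5, 9]),
   ([7, 6, 7, 6, 7, 5, 4], [9, 9, 5, 1, 9, 1, 9]),
   ([7, 5, 8, 4, 6, 8, 6], [9, 3, 3, 9]),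
   ([7, 3, 5, 1, 7, 3, 6, 7], [9, 5, 3, 9, 0, 9]),
   ([8, 6, 8, 8, 5, 8, 3], [9, 9, 0, 9, 9, 3, 5]),
   ([7, 5, 7, 7, 6, 7, 3], [9, 9, 0, 2, 9]),
   ([7, 5, 7, 7, 6, 8, 3], [9, 9, 0, 3, 1, 9]),
   ([7, 4, 6, 8, 6, 6, 8], [9, 0, 9, 9, 9, 5]),
   ([7, 4, 6, 7, 6, 7, 6], [9, 0, 3, 9, 0, 5, 9]),
   ([7, 4, 6, 7, 7, 6, 7], [9, 5, 9, 1, 5, 9]),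
   ([7, 3, 6, 7, 6, 6, 7], [9, 9, 0, 2, 9, 3]),
   ([7, 4, 5, 7, 3, 6, 7], [9, 2, 9, 3, 9, 5, 3]),
   ([7, 5, 5, 7, 6, 6], [9, 9, 5, 5, 5, 9]),
   ([7, 5, 5, 7, 6, 6, 7], [9, 1, 3, 5, 9, 3]),
   ([7, 5, 1, 7, 3, 6, 7], [9, 9, 5, 1, 9, 1, 5]),
   ([7, 5, 7, 5, 7, 4, 6], [9, 0, 1, 9, 9, 9, 9, 3]),
   ([7, 5, 8, 6, 8, 0, 6], [9, 1, 9, 5, 9, 5]),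
   ([7, 5, 8, 6, 8, 0], [9, 0, 3, 1, 5, 9]),
   ([7, 6, 7, 7, 6, 7], [9, 0, 5, 2, 5, 9, 3]),
   ([7, 4, 6, 7, 6, 6, 7], [9, 0, 3, 5, 1, 9, 3]),
   ([7, 6, 7, 7, 6, 8], [9, 1, 9, 2, 9, 5, 5]),
   ([7, 6, 7, 7, 6, 8, 8], [9, 1, 3, 5, 1, 9, 5]),
   ([7, 3, 5, 8, 4, 5, 8], [9, 0, 3, 5, 2, 9]),
   ([8, 3, 5, 7, 5, 5, 8], [9, 1, 3, 9, 9, 9, 3]),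
   ([7, 3, 6, 7, 6, 4, 8], [9, 0, 9, 9, 1, 9, 3]),
   ([7, 3, 5, 7, 5, 4, 8], [9, 5, 9, 1, 9]),
   ([7, 3, 6, 7, 5, 3], [9, 0, 1, 3, 9, 3, 9]),
   ([8, 6, 4, 8, 6, 4, 8], [9, 0, 5, 1, 3, 9]),
   ([7, 5, 5, 8, 6, 6, 8], [9, 9, 0, 2, 5, 9, 9]),
   ([7, 6, 8, 8, 5, 8], [9, 1, 9, 3, 9, 0, 9]),
   ([7, 4, 5, 7, 6, 1, 7], [9, 9, 5, 1, 2, 9, 5]),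
   ([7, 4, 6, 7, 5, 7], [9, 9, 5, 1, 2, 9, 5]),
   ([7, 4, 6, 7, 5, 8, 8], [9, 2, 9, 5, 1, 9]),
   ([7, 4, 5, 7, 6, 2, 7], [9, 5, 3, 5, 9, 3, 3]),
   ([7, 5, 5, 7, 5, 7], [9, 3, 5, 9, 3, 3]),
   ([8, 5, 8, 8, 6, 8], [9, 2, 9, 2, 3, 5]),
   ([8, 4, 6, 7, 5, 3], [9, 0, 3, 9, 1, 9, 5]),
   ([7, 4, 6, 7, 5, 7, 5], [9, 2, 5, 5, 9, 3, 9, 3]),
   ([7, 4, 6, 7, 5, 8, 0], [9, 1, 9, 3, 5, 2, 9]),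
   ([8, 6, 8, 6, 8, 5, 8], [9, 2, 5, 5, 2, 9]),
   ([7, 4, 6, 7, 5, 8, 6], [9, 2, 5, 2, 9]),
   ([7, 6, 6, 7, 6, 8], [9, 5, 9, 2, 5])]

/-- Words moving the base point. -/
def blockWords8 : List (List ℕ × List ℕ) :=
  [([7, 6, 8, 5, 8, 6], [9, 2, 3, 3, 9, 5]),
   ([7, 4, 6, 7, 5, 8, 3], [9, 5, 9, 3, 9]),
   ([7, 4, 6, 7, 5, 8, 4], [9, 0, 1, 9, 5, 5]),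
   ([8, 5, 5, 8, 6, 8], [9, 0, 3, 1, 9, 5, 5]),
   ([7, 4, 5, 7, 6, 7, 5], [9, 9, 1, 3, 9, 5]),
   ([7, 5, 7, 6, 1, 8, 5], [9, 3, 3, 9, 5, 5]),
   ([8, 4, 6, 8, 8, 6, 7], [9, 0, 2, 5, 3, 9, 5]),
   ([7, 5, 8, 4, 6, 8, 5], [9, 5, 9, 0, 9, 9]),
   ([7, 5, 2, 7, 6, 7, 6], [9, 5, 9, 9, 9, 5]),
   ([7, 6, 7, 5, 7, 5, 2], [9, 0, 1, 5, 3, 9, 5]),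
   ([7, 3, 5, 7, 6, 8, 6], [9, 5, 9, 1, 9, 3]),
   ([7, 5, 7, 6, 8, 0, 5], [9, 3, 9, 1, 9]),
   ([7, 6, 7, 5, 8, 6, 1], [9, 3, 9, 0, 5, 9]),
   ([8, 5, 8, 6, 1, 8], [9, 0, 1, 5, 9, 5, 3]),
   ([8, 5, 8, 6, 8, 0], [9, 0, 5, 1, 9, 3, 9]),
   ([7, 6, 7, 5, 7, 5], [9, 3, 5, 9, 5, 3, 9]),
   ([7, 3, 5, 1, 7, 5, 8, 6], [9, 5, 9, 0, 9]),
   ([8, 6, 8, 5, 8, 4], [9, 9, 5, 5, 9, 9, 9]),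
   ([8, 6, 8, 5, 8], [9, 0, 3, 5, 9, 5, 3]),
   ([8, 6, 8, 5, 8, 5], [9, 0, 5, 1, 3, 9, 3]),
   ([7, 4, 6, 7, 3, 6, 7, 6], [9, 0, 9, 9, 9]),
   ([8, 5, 1, 8, 5, 8], [9, 2, 9, 3, 9, 3, 9]),
   ([8, 3, 6, 7, 5, 5, 7], [9, 9, 0, 3, 9, 9, 9]),
   ([7, 5, 1, 7, 7, 6, 8], [9, 1, 2, 9, 5, 9, 5]),
   ([7, 4, 6, 7, 5, 5, 8], [9, 1, 3, 5, 9, 5, 5]),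
   ([7, 6, 7, 5, 8, 0], [9, 1, 9, 5, 9, 5]),
   ([7, 6, 8, 4, 5, 8], [9, 9, 5, 1, 9]),
   ([8, 6, 6, 8, 5, 8, 6], [9, 2, 9, 2, 5, 5]),
   ([8, 6, 6, 8, 5, 8], [9, 0, 3, 1, 9, 5, 3]),
   ([8, 4, 6, 8, 5, 8], [9, 1, 5, 9, 5, 3, 9]),
   ([7, 6, 7, 5, 7, 6, 1], [9, 9, 3, 1, 9, 3]),
   ([7, 3, 6, 7, 5, 8, 6], [9, 9, 5, 3, 9]),
   ([7, 6, 7, 5, 8, 5, 5], [9, 1, 9, 3, 9, 3]),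
   ([7, 6, 7, 5, 7, 6, 2], [9, 1, 2, 9, 3, 9, 3]),
   ([7, 4, 6, 7, 3, 6, 8], [9, 0, 2, 5, 9, 9]),
   ([7, 6, 7, 5, 8, 0, 6], [9, 3, 1, 5, 9, 3]),
   ([7, 6, 7, 5, 8, 6], [9, 9, 2, 9, 5, 5]),
   ([7, 5, 5, 7, 5, 8, 3], [9, 0, 3, 1, 9, 1, 5]),
   ([7, 5, 1, 7, 5, 8, 6, 2], [9, 0, 9, 3, 1, 9, 9]),
   ([7, 6, 7, 5, 7, 6], [9, 5, 9, 0, 9, 5]),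
   ([8, 5, 2, 8, 5, 8], [9, 5, 1, 9, 5, 5]),
   ([7, 6, 7, 5, 8, 6, 7], [9, 9, 5, 9, 9]),
   ([7, 5, 7, 5, 3, 7, 6], [9, 0, 2, 9, 3, 1, 9]),
   ([7, 5, 7, 5, 3, 7], [9, 0, 1, 9, 3, 9, 5]),
   ([7, 4, 5, 7, 5, 7, 5, 1], [9, 3, 1, 9, 5]),
   ([7, 4, 5, 7, 5, 7, 5], [9, 2, 3, 9, 1, 5]),
   ([7, 5, 5, 7, 6, 7], [9, 5, 9, 2, 3, 9, 9]),
   ([7, 6, 8, 8, 6, 8], [9, 2, 9, 9, 1, 9, 9]),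
   ([7, 6, 7, 6, 8, 8], [9, 1, 5, 3, 5, 9, 3]),
   ([7, 4, 5, 7, 6, 7], [9, 3, 9, 9, 5, 9, 9]),
   ([8, 5, 7, 7, 5, 7, 1], [9, 3, 5, 1, 9, 9]),
   ([7, 5, 5, 7, 7, 6, 7], [9, 9, 0, 5, 3, 9, 9]),
   ([7, 3, 5, 7, 6, 6, 7], [9, 9, 1, 3, 5, 9, 9]),
   ([7, 6, 6, 7, 3, 6, 7], [9, 1, 2, 5, 3, 9, 5]),
   ([7, 6, 7, 6, 4, 7], [9, 2, 9, 9, 5, 9, 3]),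
   ([7, 5, 7, 6, 7, 1], [9, 2, 3, 9, 3]),
   ([7, 5, 8, 8, 5, 8, 6], [9, 0, 9, 1, 2, 9]),
   ([8, 4, 5, 8, 6, 8, 8], [9, 9, 3, 5, 9, 9]),
   ([8, 4, 5, 8, 6, 8], [9, 5, 9, 3, 5]),
   ([7, 5, 7, 4, 6, 7, 6], [9, 9, 5, 9, 1, 3, 9]),
   ([7, 6, 7, 5, 8, 6, 3], [9, 0, 1, 5, 9]),
   ([7, 3, 6, 7, 5, 8, 3], [9, 5, 9, 9, 5, 5]),
   ([7, 6, 7, 5, 7, 5, 1], [9, 3, 3, 9, 9, 0, 9]),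
   ([7, 5, 7, 5, 7, 1, 6], [9, 3, 9, 9, 3, 5]),
   ([7, 4, 5, 7, 6, 8], [9, 2, 5, 9, 5]),
   ([8, 5, 8, 4, 5, 8, 5], [9, 9, 3, 1, 5, 9]),
   ([8, 6, 8, 8, 6, 7], [9, 0, 9, 5, 2, 3, 9]),
   ([8, 6, 8, 8, 6, 7, 3], [9, 9, 2, 9, 3, 5, 9]),
   ([8, 6, 8, 8, 6, 8], [9, 1, 2, 9, 3, 5]),
   ([8, 6, 8, 8, 6], [9, 3, 9, 1, 5, 5, 9]),
   ([7, 5, 8, 6, 8, 0, 5], [9, 0, 9, 2, 9, 1, 5]),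
   ([7, 5, 2, 8, 5, 8, 6], [9, 3, 3, 9, 2, 3, 5]),
   ([7, 6, 7, 7, 6, 3, 8], [9, 0, 1, 5, 9, 0, 9]),
   ([7, 5, 5, 7, 3, 6, 8], [9, 0, 5, 1, 9, 0, 9]),
   ([7, 5, 7, 6, 7, 6], [9, 9, 1, 5, 1, 9]),
   ([7, 5, 5, 7, 5, 8, 8], [9, 2, 9, 1, 5, 9]),
   ([8, 5, 1, 8, 8, 5, 7], [9, 5, 9, 5, 5]),
   ([7, 5, 7, 7, 5, 7, 7], [9, 9, 0, 9, 3, 5]),
   ([7, 6, 8, 5, 8, 5], [9, 0, 1, 5, 5, 9]),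
   ([7, 5, 5, 7, 5, 7, 7], [9, 0, 1, 9, 2, 9, 5]),
   ([8, 5, 1, 8, 8, 5], [9, 2, 5, 9, 5, 5, 2, 9]),
   ([7, 5, 7, 7, 6, 8, 6], [9, 3, 3, 9, 1, 2, 9]),
   ([7, 5, 7, 7, 6, 8], [9, 3, 9, 1, 9, 3, 3]),
   ([7, 4, 5, 7, 6, 3, 8], [9, 1, 5, 2, 9, 9, 5]),
   ([7, 4, 5, 7, 6, 7, 1], [9, 3, 9, 5, 1, 9]),
   ([7, 3, 5, 1, 7, 6, 7], [9, 9, 0, 3, 9, 9]),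
   ([7, 3, 5, 7, 5, 1, 7], [9, 3, 1, 9, 2, 5, 3]),
   ([7, 5, 5, 7, 5, 7, 5], [9, 0, 3, 9, 2, 9, 5]),
   ([7, 3, 6, 7, 4, 6, 7], [9, 0, 9, 5, 2, 9, 3]),
   ([7, 3, 5, 1, 7, 6, 6, 7], [9, 0, 9, 2, 9, 3]),
   ([7, 6, 7, 5, 8, 0, 6, 8], [9, 0, 2, 9, 9]),
   ([7, 6, 8, 4, 5, 8, 6], [9, 0, 1, 5, 9, 5]),
   ([7, 5, 1, 7, 6, 4, 7], [9, 1, 5, 9, 0, 3, 9]),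
   ([7, 5, 1, 7, 7, 6, 7], [9, 0, 3, 1, 9, 5]),
   ([7, 4, 5, 7, 5, 8, 8], [9, 2, 3, 3, 9, 5]),
   ([7, 4, 5, 7, 5, 1, 7], [9, 9, 9, 9, 2, 5]),
   ([7, 4, 5, 7, 5, 7, 7], [9, 2, 9, 1, 3, 9]),
   ([7, 4, 5, 7, 5, 4, 8, 3], [9, 5, 5, 9, 3, 5]),
   ([8, 6, 8, 6, 8, 4, 5], [9, 9, 3, 1, 9]),
   ([7, 3, 6, 7, 4, 5, 8, 5], [9, 0, 1, 9, 2, 9, 9])]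

/-- Words moving the base point. -/
def blockWords9 : List (List ℕ × List ℕ) :=
  [([7, 3, 5, 7, 5, 7, 1, 6], [9, 2, 9, 5, 1, 9, 3]),
   ([7, 5, 5, 7, 6, 8], [9, 5, 2, 9, 5, 3]),
   ([8, 3, 6, 8, 3, 6], [9, 5, 3, 5, 9, 1, 9]),
   ([7, 5, 1, 7, 6, 7, 6], [9, 1, 3, 9, 3, 9]),
   ([8, 5, 5, 8, 8, 5], [9, 5, 9, 5]),
   ([7, 6, 4, 7, 6, 7, 4], [9, 3, 5, 9, 0, 2, 9]),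
   ([7, 5, 7, 5, 7, 5, 1], [9, 0, 5, 5, 9, 3, 9]),
   ([7, 4, 5, 7, 5, 5, 8], [9, 1, 5, 2, 9, 9, 5]),
   ([7, 4, 6, 7, 6, 8, 4], [9, 1, 5, 3, 9, 5]),
   ([7, 6, 7, 7, 6, 8, 4], [9, 9, 3, 5, 9, 5]),
   ([8, 5, 8, 5, 8, 6, 3], [9, 0, 5, 9, 0, 9, 9]),
   ([7, 6, 7, 7, 6, 7, 7], [9, 2, 9, 1, 2, 5, 9]),
   ([7, 6, 7, 7, 6, 7, 4], [9, 0, 9, 0, 3, 1, 9]),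
   ([7, 5, 7, 5, 3, 8, 5, 1], [9, 0, 1, 9, 9, 3, 3]),
   ([8, 4, 6, 8, 5, 1], [9, 0, 9, 0, 3, 9, 9]),
   ([8, 4, 6, 8, 5, 2], [9, 1, 9, 1, 9, 5]),
   ([7, 4, 5, 8, 5, 2, 8], [9, 5, 2, 9, 0, 9]),
   ([7, 4, 5, 8, 5, 2, 8, 8], [9, 0, 9, 1, 9, 3, 9]),
   ([7, 5, 1, 8, 8, 6, 8], [9, 9, 0, 2, 5, 9, 9]),
   ([7, 5, 7, 5, 7, 1, 7], [9, 0, 1, 9, 9, 3, 5]),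
   ([7, 4, 6, 8, 6, 8, 5, 1], [9, 1, 9, 9, 1, 3, 5]),
   ([7, 6, 7, 4, 5, 7], [9, 5, 9, 9]),
   ([7, 3, 6, 7, 7, 6, 7], [9, 3, 1, 9, 3, 3, 9]),
   ([7, 6, 7, 6, 6, 7, 5], [9, 0, 3, 1, 3, 9]),
   ([8, 6, 8, 8, 5, 7, 3], [9, 2, 9, 3, 9, 9]),
   ([7, 6, 6, 8, 6, 4, 8], [9, 9, 5, 3, 9, 3]),
   ([7, 4, 5, 8, 5, 4, 8], [9, 9, 3, 9, 2, 9, 5]),
   ([8, 3, 6, 7, 6, 3, 7], [9, 5, 2, 9, 9]),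
   ([7, 4, 6, 7, 6, 4, 8], [9, 5, 9, 1, 9]),
   ([7, 4, 5, 7, 5, 4, 8], [9, 0, 1, 5, 9, 0, 9]),
   ([7, 6, 6, 7, 6, 4, 7], [9, 1, 5, 3, 9, 2, 5]),
   ([7, 6, 4, 7, 6, 8], [9, 0, 9, 5, 9, 5]),
   ([7, 3, 6, 7, 5, 8, 0], [9, 5, 9, 5, 3, 9]),
   ([7, 5, 7, 6, 7, 5], [9, 1, 5, 1, 9, 2, 9]),
   ([7, 3, 5, 7, 6, 1, 7], [9, 9, 1, 2, 9, 9]),
   ([8, 6, 8, 4, 5, 8], [9, 1, 5, 2, 9, 5]),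
   ([8, 6, 8, 4, 5], [9, 0, 5, 9, 2, 9, 3, 3]),
   ([7, 3, 5, 7, 6, 8], [9, 2, 9, 3, 5, 9]),
   ([7, 3, 6, 7, 3, 6, 8], [9, 5, 5, 9, 3, 5]),
   ([7, 5, 7, 6, 7, 1, 5], [9, 5, 2, 9, 0, 1, 9]),
   ([8, 5, 1, 8, 6, 8], [9, 5, 3, 9, 2, 9, 3]),
   ([7, 3, 6, 7, 5, 7], [9, 3, 1, 3, 9, 5, 9]),
   ([8, 5, 8, 4, 6, 8], [9, 0, 5, 1, 9, 1, 5]),
   ([7, 5, 7, 6, 8, 6], [9, 1, 5, 9, 9, 3, 5]),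
   ([7, 3, 6, 7, 5, 8, 6, 7], [9, 5, 2, 9, 3]),
   ([7, 4, 6, 7, 6, 7, 5, 4], [9, 2, 5, 9, 3]),
   ([7, 5, 1, 8, 8, 5, 8], [9, 2, 5, 9, 9, 2, 9]),
   ([8, 6, 8, 6, 8, 6], [9, 9, 9]),
   ([7, 3, 5, 1, 7, 5, 7], [9, 1, 2, 9, 9, 1, 9]),
   ([7, 5, 1, 8, 8, 6, 7], [9, 0, 1, 9, 9, 0, 9]),
   ([7, 5, 7, 5, 7, 3], [9, 9, 0, 3, 9, 5, 3]),
   ([7, 4, 5, 7, 6, 6, 7], [9, 0, 3, 1, 9, 2, 5]),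
   ([8, 4, 6, 8, 6, 8, 8], [9, 1, 9, 9, 9]),
   ([7, 3, 5, 8, 5, 8, 0, 6], [9, 1, 9, 1, 9, 2, 9]),
   ([7, 3, 6, 8, 6, 8], [9, 0, 1, 5, 5, 9]),
   ([7, 3, 6, 7, 3, 6, 7], [9, 0, 5, 5, 9, 9]),
   ([7, 3, 6, 7, 6, 4, 7], [9, 0, 2, 5, 5, 9, 9]),
   ([7, 3, 5, 7, 6, 7], [9, 2, 9, 1, 9, 9]),
   ([7, 3, 5, 7, 6, 7, 1], [9, 0, 3, 9, 9, 3, 5]),
   ([8, 5, 2, 8, 4, 5, 8], [9, 0, 9, 2, 3, 9, 3, 3]),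
   ([8, 5, 2, 8, 4, 5], [9, 2, 9, 3, 9, 9]),
   ([8, 3, 6, 8, 5, 2], [9, 3, 3, 9, 2, 3, 5]),
   ([7, 5, 7, 5, 3, 8, 5], [9, 0, 1, 5, 9, 5, 9]),
   ([7, 5, 7, 6, 8, 6, 6], [9, 1, 2, 9, 3, 9, 3]),
   ([8, 6, 8, 5, 1, 8], [9, 0, 5, 2, 9, 5, 5]),
   ([8, 4, 6, 8, 8, 6], [9, 3, 9, 3]),
   ([7, 5, 7, 6, 8, 5, 8], [9, 0, 9, 2, 9]),
   ([7, 5, 2, 8, 5, 8, 6, 7], [9, 0, 3, 3, 9, 9, 5]),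
   ([8, 4, 5, 7, 6, 6, 7], [9, 5, 3, 9, 3, 1, 5]),
   ([8, 4, 6, 8, 3, 6, 7], [9, 3, 9, 9, 0, 9]),
   ([8, 6, 7, 7, 6, 7, 5], [9, 5, 2, 9, 3, 5]),
   ([7, 4, 6, 7, 3, 6, 7], [9, 9, 3, 5, 9, 3, 5]),
   ([7, 4, 6, 7, 6, 4, 7], [9, 9, 2, 5, 9, 5, 3]),
   ([8, 5, 8, 6, 4, 8], [9, 5, 9, 9, 0, 9]),
   ([7, 5, 8, 6, 8, 6], [9, 1, 5, 5, 5, 9, 5]),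
   ([8, 5, 8, 6, 8], [9, 1, 9, 2, 5, 9, 3]),
   ([8, 3, 6, 8, 5, 1], [9, 2, 9, 9, 1, 5]),
   ([8, 3, 6, 8, 8, 6, 8], [9, 2, 3, 5, 9, 9]),
   ([8, 3, 6, 8, 8, 6], [9, 3, 9, 9, 1, 9]),
   ([7, 4, 6, 8, 6, 8, 6], [9, 0, 5, 9, 5, 1, 9, 9]),
   ([7, 6, 7, 4, 6, 7], [9, 0, 2, 9, 9, 9, 9]),
   ([7, 5, 1, 7, 6, 6, 7], [9, 1, 9, 0, 3, 9, 5]),
   ([8, 4, 6, 7, 6, 6, 7], [9, 2, 9, 2, 9, 5]),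
   ([7, 5, 5, 8, 3, 6, 7], [9, 0, 1, 2, 9, 0, 9]),
   ([7, 5, 5, 8, 6, 4, 7], [9, 0, 1, 9, 0, 9]),
   ([7, 3, 5, 7, 5, 7, 3], [9, 2, 9, 3, 1, 5]),
   ([7, 5, 5, 7, 3, 6, 7], [9, 5, 5, 9, 0, 3, 9]),
   ([7, 5, 5, 7, 6, 4, 7], [9, 3, 9, 9, 3, 3]),
   ([8, 5, 7, 7, 5, 8, 6], [9, 3, 9, 2, 9, 5, 5]),
   ([7, 5, 1, 8, 6, 8, 6], [9, 1, 5, 1, 9, 5]),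
   ([7, 3, 5, 7, 5, 8, 8], [9, 9, 5, 2, 9, 3]),
   ([7, 3, 5, 7, 5, 4, 8, 3], [9, 2, 3, 9, 0, 9]),
   ([7, 5, 7, 7, 6, 7, 6], [9, 5, 2, 3, 9, 2, 5]),
   ([7, 6, 7, 4, 5, 8, 5], [9, 0, 3, 9, 3, 9, 3]),
   ([7, 3, 5, 7, 5, 7, 5, 8], [9, 9, 9, 9, 1, 5]),
   ([8, 4, 6, 8, 5, 4], [9, 0, 9, 9, 5, 3]),
   ([8, 5, 5, 8, 5], [9, 9, 5, 9, 5, 5]),
   ([8, 4, 6, 8, 3, 6], [9, 0, 1, 2, 9, 0, 9, 9]),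
   ([7, 6, 7, 3, 6, 7, 5], [9, 0, 1, 3, 9, 5, 5]),
   ([7, 3, 6, 7, 6, 7, 5, 1], [9, 1, 9, 9, 5, 3])]

/-- Words moving the base point. -/
def blockWords10 : List (List ℕ × List ℕ) :=
  [([7, 4, 6, 7, 7, 6, 8], [9, 1, 3, 5, 9, 3]),
   ([7, 3, 5, 7, 5, 5, 8], [9, 0, 3, 9, 9, 3]),
   ([8, 6, 8, 8, 5, 5], [9, 0, 2, 9, 3, 9, 5]),
   ([7, 6, 7, 6, 7, 7, 6], [9, 0, 3, 1, 9, 3, 3]),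
   ([7, 6, 7, 7, 5, 8, 6], [9, 9, 3, 9, 2, 9]),
   ([8, 5, 1, 8, 8, 6, 8], [9, 0, 3, 3, 9, 0, 9]),
   ([7, 3, 5, 7, 5, 7, 1, 7], [9, 9, 5, 1, 3, 9]),
   ([7, 4, 6, 8, 6, 8, 6, 3], [9, 1, 9, 0, 9, 2, 9]),
   ([8, 6, 8, 5, 1], [9, 9, 0, 9, 5, 9, 9]),
   ([8, 6, 8, 5, 2], [9, 9, 9, 2, 3, 9]),
   ([7, 4, 5, 8, 3, 6, 7], [9, 0, 1, 2, 9, 0, 9]),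
   ([7, 4, 5, 8, 6, 4, 7], [9, 0, 1, 9, 0, 9]),
   ([7, 5, 8, 8, 5, 5, 8], [9, 2, 5, 1, 9, 9, 9]),
   ([7, 3, 6, 7, 7, 6, 8, 3], [9, 3, 3, 9, 2, 5, 3]),
   ([7, 5, 5, 7, 6, 4, 8], [9, 0, 1, 5, 9, 5, 5]),
   ([7, 4, 5, 7, 3, 5, 8], [9, 5, 1, 2, 9, 5, 3]),
   ([7, 4, 5, 7, 6, 4, 7], [9, 3, 5, 9, 0, 9, 3]),
   ([8, 4, 6, 8, 3, 5], [9, 2, 9, 5, 2, 9]),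
   ([8, 4, 5, 8, 5, 8], [9, 0, 5, 2, 9, 9]),
   ([7, 5, 7, 7, 5, 7, 5], [9, 2, 5, 5, 9, 1, 5]),
   ([8, 5, 8, 8, 5, 8], [9, 1, 9, 1, 5, 5, 9]),
   ([7, 5, 7, 7, 5, 7, 5, 8], [9, 0, 2, 5, 2, 9, 9, 9]),
   ([8, 6, 8, 5], [9, 2, 9, 2, 9, 3, 9]),
   ([7, 5, 7, 7, 6, 8, 4], [9, 1, 9, 2, 5, 9]),
   ([8, 4, 6, 8, 4, 5, 7], [9, 0, 5, 9, 3, 9]),
   ([7, 5, 7, 7, 6, 7, 7], [9, 0, 9, 9, 2, 3, 5]),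
   ([7, 5, 7, 7, 6, 7, 4], [9, 1, 2, 5, 9, 9]),
   ([8, 4, 6, 8, 4, 5], [9, 3, 5, 9, 9, 1, 5]),
   ([7, 5, 7, 7, 5, 5, 8], [9, 0, 5, 9, 5, 3]),
   ([7, 5, 1, 7, 6, 7, 7], [9, 9, 9, 5, 9, 1, 5]),
   ([7, 4, 5, 8, 5, 2, 8, 5], [9, 1, 3, 9, 9, 3, 5]),
   ([7, 5, 5, 8, 5, 8, 8], [9, 9, 5, 9, 9, 3]),
   ([7, 6, 7, 6, 7, 7], [9, 2, 3, 9, 9, 9, 5]),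
   ([7, 5, 5, 8, 5, 8, 6], [9, 0, 9, 5, 2, 9, 5]),
   ([7, 6, 7, 6, 4, 7, 3], [9, 9, 3, 9]),
   ([7, 3, 6, 7, 5, 7, 6, 8], [9, 2, 3, 9, 1, 5]),
   ([7, 5, 7, 6, 7, 5, 5], [9, 3, 3, 9, 2, 9]),
   ([7, 5, 7, 6, 7, 6, 6], [9, 5, 9, 9, 0, 1, 9]),
   ([7, 6, 7, 6, 7, 5], [9, 9, 0, 3, 9, 9]),
   ([8, 6, 8, 5, 8, 8], [9, 3, 9, 5, 5, 2, 9]),
   ([7, 5, 8, 6, 8, 5, 7], [9, 0, 1, 2, 5, 9, 5, 3]),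
   ([7, 5, 7, 6, 8, 5], [9, 0, 3, 5, 1, 9, 3]),
   ([7, 6, 7, 6, 6, 8, 8], [9, 0, 9, 9, 1, 3, 5]),
   ([7, 3, 5, 7, 5, 8, 8, 5], [9, 0, 1, 2, 9, 2, 9]),
   ([7, 3, 5, 7, 5, 7, 1, 4], [9, 1, 3, 9, 9]),
   ([7, 5, 7, 3, 5, 7], [9, 0, 1, 5, 9, 3, 9]),
   ([7, 5, 7, 3, 5, 1, 7], [9, 3, 3, 9, 3, 9, 9]),
   ([7, 4, 6, 7, 6, 3, 8, 3], [9, 2, 9, 3, 1, 5]),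
   ([7, 4, 6, 7, 6, 7, 4], [9, 9, 5, 9, 3, 3]),
   ([7, 4, 6, 7, 6, 7, 4, 5], [9, 5, 3, 9, 9]),
   ([7, 5, 7, 6, 7, 1, 5, 8], [9, 5, 2, 9, 5, 5]),
   ([7, 5, 5, 7, 6, 7, 6], [9, 0, 2, 3, 9, 2, 5]),
   ([7, 5, 7, 4, 5, 5, 7], [9, 0, 2, 3, 9, 0, 9, 5]),
   ([7, 5, 7, 5, 1, 7, 4], [9, 2, 9, 0, 5, 1, 9]),
   ([7, 4, 6, 8, 6, 8, 4], [9, 9, 9, 3, 9]),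
   ([7, 3, 5, 7, 5, 3, 7], [9, 5, 9, 1, 2, 5]),
   ([7, 5, 7, 5, 4, 7], [9, 1, 9, 2, 9, 9, 5]),
   ([7, 5, 7, 5, 2, 7, 4], [9, 0, 2, 9, 2, 9]),
   ([7, 4, 5, 8, 5, 8, 4], [9, 2, 9, 5, 5]),
   ([7, 3, 6, 7, 6, 3, 7], [9, 1, 5, 9, 5, 9]),
   ([8, 4, 6, 8, 4, 6, 8], [9, 3, 9, 1, 3, 5, 9]),
   ([7, 5, 1, 7, 6, 7, 4], [9, 2, 9, 0, 2, 9]),
   ([7, 5, 5, 8, 5, 8, 4], [9, 5, 2, 9, 9]),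
   ([7, 5, 2, 7, 5, 7, 4], [9, 0, 1, 9, 1, 9]),
   ([7, 6, 6, 8, 6, 8, 4], [9, 3, 9, 9, 1, 5]),
   ([7, 4, 6, 7, 5, 5, 7], [9, 0, 1, 3, 9, 5]),
   ([7, 4, 5, 7, 6, 8, 8], [9, 0, 3, 1, 9, 5, 9]),
   ([7, 4, 5, 7, 6, 8, 8, 5], [9, 1, 2, 9, 3, 1, 9]),
   ([7, 3, 6, 7, 5, 8, 6, 8], [9, 0, 1, 9, 0, 9]),
   ([7, 5, 7, 5, 5, 7], [9, 0, 1, 9, 9, 9, 5, 9]),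
   ([7, 3, 6, 7, 7, 6, 8, 8], [9, 0, 2, 9, 3, 5]),
   ([7, 5, 7, 5, 7, 1, 4], [9, 1, 9, 0, 1, 9]),
   ([7, 4, 5, 7, 5, 2, 7, 4], [9, 0, 5, 5, 9, 9]),
   ([7, 6, 7, 6, 7, 4], [9, 0, 9, 9, 9, 5]),
   ([7, 6, 7, 6, 3, 8, 3], [9, 2, 5, 5, 9, 3, 3]),
   ([7, 6, 7, 6, 3, 7, 3], [9, 0, 1, 5, 9, 1, 3, 9]),
   ([8, 5, 8, 5, 8, 0], [9, 3, 9, 5, 2, 9, 9]),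
   ([8, 5, 8, 5, 8], [9, 9, 2, 5, 9, 9]),
   ([8, 6, 8, 5, 4, 8], [9, 1, 9, 9, 5, 9, 9]),
   ([8, 5, 8, 5, 8, 6], [9, 9, 0, 1, 2, 9]),
   ([8, 5, 8, 5, 2, 8], [9, 0, 9, 5, 9, 2, 9]),
   ([8, 5, 8, 5, 2, 8, 5], [9, 1, 3, 5, 1, 9, 0, 9]),
   ([7, 5, 2, 7, 5, 7, 3], [9, 1, 2, 9, 0, 9, 2, 9]),
   ([7, 6, 7, 6, 6, 7, 4], [9, 3, 3, 9, 1, 9, 3]),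
   ([7, 6, 7, 6, 7, 5, 2], [9, 0, 5, 9, 9, 3, 3]),
   ([7, 6, 7, 6, 7, 3, 5], [9, 5, 9, 3, 3, 9]),
   ([7, 3, 5, 7, 6, 7, 1, 5], [9, 2, 9, 9, 1, 9]),
   ([8, 3, 6, 8, 6, 8, 8], [9, 5, 9, 1, 5, 9]),
   ([8, 5, 8, 5, 8, 4], [9, 1, 9, 0, 9, 3]),
   ([8, 5, 8, 3, 6, 8], [9, 0, 9, 2, 9, 1, 5]),
   ([8, 6, 8, 6, 8, 4], [9, 9, 0, 1, 9, 3]),
   ([7, 6, 7, 6, 7, 7, 5], [9, 0, 3, 5, 1, 9, 9]),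
   ([7, 5, 8, 8, 5, 7], [9, 1, 5, 9, 1, 9, 9]),
   ([7, 5, 7, 5, 7, 4], [9, 2, 9, 0, 2, 9]),
   ([8, 5, 8, 5, 8, 3, 5], [9, 3, 1, 9, 9]),
   ([8, 3, 6, 8, 5, 5, 8], [9, 1, 3, 9, 5, 9]),
   ([8, 5, 7, 7, 6, 8], [9, 0, 5, 9, 3, 9, 3]),
   ([8, 5, 1, 7, 7, 6, 8], [9, 0, 3, 1, 9, 5, 9]),
   ([7, 5, 5, 8, 5, 5, 7], [9, 9, 0, 2, 3, 9]),
   ([7, 5, 2, 7, 5, 7, 4, 6], [9, 0, 9, 0, 9, 1, 5])]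

/-- Words moving the base point. -/
def blockWords11 : List (List ℕ × List ℕ) :=
  [([7, 4, 5, 7, 3, 5, 7, 5], [9, 1, 3, 9, 0, 5, 9]),
   ([8, 3, 5, 8, 6, 4, 7], [9, 9, 0, 2, 3, 5, 9]),
   ([7, 5, 7, 7, 5, 7, 7, 6], [9, 0, 3, 9, 0, 1, 9]),
   ([7, 5, 1, 8, 8, 5, 7, 6], [9, 1, 9, 2, 5, 9]),
   ([7, 5, 1, 8, 8, 5, 7], [9, 1, 9, 0, 3, 9]),
   ([8, 6, 8, 3, 6, 8], [9, 0, 1, 5, 1, 2, 9, 9]),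
   ([7, 4, 5, 7, 3, 5, 7], [9, 1, 2, 9, 2, 9, 9]),
   ([7, 5, 7, 5, 7, 5, 4], [9, 0, 1, 2, 9, 0, 2, 9]),
   ([7, 6, 7, 6, 7, 1, 6], [9, 1, 5, 9, 3, 9]),
   ([8, 3, 6, 8, 5, 5], [9, 3, 9, 0, 9, 5]),
   ([7, 5, 2, 7, 5, 7, 6], [9, 5, 3, 9, 9, 3]),
   ([7, 6, 6, 7, 5, 7, 3], [9, 0, 5, 9, 1, 9, 5]),
   ([7, 4, 5, 8, 5, 8, 6], [9, 0, 9, 2, 9, 3]),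
   ([7, 5, 7, 5, 7, 5, 2], [9, 1, 3, 9, 3, 9]),
   ([8, 6, 7, 7, 6, 8], [9, 3, 1, 9, 5, 9, 5]),
   ([7, 5, 8, 8, 6, 7, 6], [9, 0, 2, 5, 9, 9]),
   ([7, 6, 7, 6, 7, 5, 1], [9, 3, 9, 3, 9, 3, 5]),
   ([8, 5, 8, 3, 5, 8], [9, 0, 2, 9, 9, 2, 5]),
   ([7, 3, 6, 7, 5, 3, 7, 6], [9, 5, 3, 9, 1, 9]),
   ([7, 3, 6, 7, 5, 3, 7], [9, 2, 9, 0, 3, 9, 3]),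
   ([8, 4, 6, 8, 5, 5, 8], [9, 3, 3, 9, 1, 9]),
   ([7, 6, 7, 7, 5, 7], [9, 0, 1, 9, 0, 9, 9]),
   ([8, 3, 6, 8, 6, 4, 8], [9, 9, 0, 5, 9]),
   ([7, 3, 5, 7, 5, 4, 7, 5], [9, 1, 2, 9, 3, 3]),
   ([8, 6, 4, 8, 6, 8, 4], [9, 3, 9, 3, 1, 5]),
   ([8, 3, 5, 8, 5, 4, 8], [9, 0, 5, 5, 2, 9]),
   ([7, 3, 6, 7, 6, 4, 7, 3], [9, 2, 9, 9, 2, 3, 9]),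
   ([7, 4, 5, 7, 6, 3, 7], [9, 0, 1, 3, 9, 1, 5]),
   ([7, 4, 6, 7, 5, 3, 7], [9, 0, 9, 9, 1, 9]),
   ([8, 5, 5, 8, 5, 5, 8], [9, 1, 2, 9, 1, 3, 5]),
   ([8, 4, 6, 8, 5, 5], [9, 0, 2, 9, 0, 2, 9]),
   ([8, 4, 6, 8, 4, 6], [9, 1, 9, 1, 9]),
   ([7, 5, 7, 5, 4, 7, 6], [9, 0, 3, 9, 1, 9, 2, 9]),
   ([8, 3, 6, 8, 6, 8, 4], [9, 9, 5, 9, 0, 5, 9]),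
   ([8, 3, 6, 8, 6, 8], [9, 0, 1, 2, 9, 1, 2, 5]),
   ([7, 6, 6, 8, 6, 8, 5], [9, 9, 0, 9, 9]),
   ([8, 3, 6, 8, 5, 5, 7], [9, 9, 3, 5, 2, 9, 3]),
   ([7, 4, 5, 7, 5, 1, 7, 4], [9, 9, 5, 9, 3, 3]),
   ([7, 5, 5, 7, 6, 7, 7], [9, 1, 9, 3, 9]),
   ([7, 4, 5, 7, 5, 1, 7, 7], [9, 5, 3, 9, 0, 5, 9]),
   ([7, 6, 8, 8, 5, 8, 6], [9, 5, 9, 3, 9, 3]),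
   ([7, 3, 5, 7, 3, 5, 7], [9, 0, 2, 5, 3, 9, 9]),
   ([7, 4, 5, 7, 5, 5, 8, 6], [9, 9, 3, 9, 2, 9]),
   ([7, 5, 5, 7, 6, 8, 8], [9, 3, 3, 9, 5]),
   ([7, 6, 7, 7, 5, 8, 8], [9, 3, 9, 9, 1, 9, 5]),
   ([7, 4, 5, 7, 5, 7, 3], [9, 0, 2, 9, 3, 5, 9, 5]),
   ([7, 4, 5, 7, 5, 7, 4], [9, 5, 5, 9, 0, 9]),
   ([7, 5, 8, 8, 5, 8, 5], [9, 5, 9]),
   ([7, 4, 5, 7, 6, 3, 7, 5], [9, 0, 5, 5, 9, 9]),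
   ([7, 4, 5, 8, 5, 8, 0, 8], [9, 3, 9, 9, 0, 9, 3]),
   ([8, 5, 8, 8, 6, 8, 4], [9, 1, 3, 9, 2, 5, 5]),
   ([7, 4, 5, 7, 5, 2, 7, 7], [9, 9, 0, 1, 9, 2, 9]),
   ([7, 3, 6, 7, 6, 8, 8], [9, 2, 3, 5, 9, 9]),
   ([8, 5, 5, 8, 6, 6, 7], [9, 9, 9, 2, 9, 3, 3]),
   ([8, 5, 5, 8, 6, 6], [9, 0, 9, 0, 9]),
   ([7, 4, 6, 7, 6, 3, 7], [9, 9, 3, 9, 1, 9]),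
   ([7, 6, 7, 6, 3, 7], [9, 9, 0, 9, 9, 5]),
   ([7, 6, 7, 6, 3, 8, 8], [9, 1, 9, 3, 1, 5]),
   ([7, 4, 6, 8, 4, 6, 8], [9, 3, 5, 2, 9, 9]),
   ([7, 5, 7, 5, 3, 7, 5], [9, 0, 5, 9, 0, 1, 9]),
   ([7, 6, 7, 6, 7, 1, 4], [9, 1, 9, 0, 1, 9]),
   ([7, 6, 7, 6, 6, 8, 3], [9, 0, 3, 3, 9, 5, 5]),
   ([7, 4, 6, 8, 3, 6, 8], [9, 9, 5, 3, 9, 3]),
   ([7, 4, 6, 7, 6, 7, 1, 4], [9, 9, 5, 9, 9, 3]),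
   ([7, 6, 6, 7, 5, 7, 4], [9, 2, 9, 0, 9, 3, 1, 5]),
   ([8, 6, 8, 6, 8, 8], [9, 1, 9, 2, 9]),
   ([7, 5, 7, 5, 3, 8, 3], [9, 9, 9, 3, 9]),
   ([7, 5, 7, 5, 3, 7, 3], [9, 1, 9, 9, 5]),
   ([7, 5, 7, 5, 5, 8, 8], [9, 0, 9, 9, 3, 5]),
   ([7, 6, 8, 8, 5, 7], [9, 5, 1, 9, 1, 9, 9]),
   ([7, 5, 7, 6, 8, 5, 2], [9, 9, 2, 9, 5, 3]),
   ([7, 5, 7, 5, 5, 7, 5], [9, 3, 9, 0, 9, 3]),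
   ([7, 6, 6, 7, 6, 8, 8], [9, 2, 9, 5, 1, 9]),
   ([7, 5, 7, 6, 7, 1, 6], [9, 2, 9, 9, 5, 5, 9]),
   ([7, 5, 7, 6, 7, 3, 5], [9, 0, 1, 2, 5, 9]),
   ([7, 4, 5, 7, 6, 6, 8, 4], [9, 9, 5, 5, 9, 5]),
   ([7, 4, 5, 7, 5, 7, 1, 6], [9, 2, 5, 3, 9]),
   ([7, 5, 8, 6, 8, 5, 8], [9, 3, 1, 9]),
   ([7, 5, 8, 6, 8, 5], [9, 1, 3, 5, 9, 9, 9]),
   ([7, 5, 8, 8, 6, 8, 5, 3], [9, 0, 2, 5, 9]),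
   ([7, 4, 5, 7, 5, 1, 7, 5], [9, 1, 5, 3, 9]),
   ([8, 5, 8, 6, 8, 6], [9, 5, 9, 3, 9]),
   ([7, 5, 1, 7, 7, 6, 8, 3], [9, 5, 9, 3, 9, 5]),
   ([8, 4, 6, 8, 5], [9, 0, 1, 3, 5, 1, 9, 9]),
   ([7, 6, 7, 7, 5, 5, 7], [9, 1, 2, 5, 3, 9, 5]),
   ([7, 4, 6, 7, 5, 7, 1, 4], [9, 0, 1, 2, 5, 5, 9]),
   ([8, 6, 8, 8, 5, 5, 8], [9, 0, 1, 9, 3, 3, 9]),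
   ([8, 4, 6, 8, 3, 6, 8], [9, 0, 5, 9, 5, 5]),
   ([7, 5, 7, 6, 7, 6, 8], [9, 1, 9, 9, 9, 3]),
   ([7, 5, 1, 7, 5, 8, 6, 8], [9, 5, 1, 9, 9, 5]),
   ([8, 5, 5, 8, 5, 8, 5], [9, 3, 1, 9, 9, 9]),
   ([8, 3, 5, 8, 5, 8], [9, 0, 2, 9, 2, 5]),
   ([7, 3, 6, 8, 6, 8, 5], [9, 5, 5, 9, 2, 9, 5]),
   ([7, 3, 6, 8, 6, 8, 5, 8], [9, 1, 9, 9]),
   ([8, 3, 5, 1, 8, 6, 6], [9, 0, 9, 9, 5, 2, 5, 9]),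
   ([7, 4, 6, 7, 6, 8, 8], [9, 3, 1, 3, 9, 1, 5]),
   ([7, 4, 5, 7, 6, 7, 7], [9, 0, 2, 9, 1, 9, 2, 5]),
   ([7, 5, 7, 5, 8, 8, 6], [9, 3, 9, 1, 9, 1, 9]),
   ([7, 5, 7, 3, 5, 8, 4], [9, 0, 9, 1, 3, 5]),
   ([7, 3, 5, 7, 5, 1, 7, 4], [9, 2, 3, 3, 9, 5])]

/-- Words moving the base point. -/
def blockWords12 : List (List ℕ × List ℕ) :=
  [([7, 3, 5, 7, 5, 7, 4], [9, 2, 3, 9, 1, 2, 9]),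
   ([7, 6, 7, 4, 5, 7, 5], [9, 3, 1, 3, 9]),
   ([7, 4, 5, 7, 5, 4, 7], [9, 9, 2, 5, 9, 5, 3]),
   ([8, 5, 1, 8, 3, 6, 8], [9, 1, 3, 9, 1, 9, 9]),
   ([7, 4, 6, 8, 5, 5, 7], [9, 9, 9, 1, 9, 3, 9]),
   ([8, 6, 8, 6, 8], [9, 0, 2, 5, 9, 9, 9]),
   ([8, 6, 8, 6, 8, 5], [9, 0, 2, 3, 9, 1, 9, 3]),
   ([8, 5, 7, 7, 6, 1, 8], [9, 1, 9, 9, 2, 5]),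
   ([7, 6, 8, 5, 8, 5, 7], [9, 9, 9, 2, 5, 5]),
   ([7, 5, 7, 5, 7, 1, 6, 7], [9, 1, 5, 9, 2, 5, 9]),
   ([7, 5, 7, 7, 5, 7], [9, 3, 9, 2, 5]),
   ([8, 5, 5, 8, 5, 8, 8], [9, 0, 5, 1, 2, 9, 5]),
   ([8, 5, 5, 8, 5, 8], [9, 1, 2, 9, 9, 3, 9]),
   ([8, 5, 8, 4, 6, 8, 6], [9, 3, 1, 9, 1, 9]),
   ([7, 6, 7, 6, 7, 5, 2, 7], [9, 0, 1, 9, 3, 9, 3]),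
   ([7, 4, 5, 7, 6, 1, 7, 4], [9, 0, 5, 5, 9]),
   ([7, 5, 7, 7, 6, 3, 7], [9, 5, 9, 2, 9, 9, 9]),
   ([7, 4, 5, 7, 6, 1, 7, 6], [9, 3, 9, 9, 3, 9]),
   ([7, 5, 7, 5, 3, 8, 5, 2], [9, 9, 9, 5, 9, 9]),
   ([7, 5, 8, 8, 5, 7, 7], [9, 3, 9, 0, 2, 9]),
   ([7, 6, 4, 8, 6, 8, 5], [9, 1, 9, 1, 9, 2, 9]),
   ([7, 4, 6, 7, 7, 6, 8, 8], [9, 5, 1, 9, 5, 3]),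
   ([7, 3, 5, 1, 8, 5, 8, 8], [9, 0, 9, 9, 2, 5, 5]),
   ([7, 6, 4, 8, 6, 8, 4], [9, 0, 5, 1, 2, 9, 3]),
   ([7, 6, 7, 3, 6, 8, 4], [9, 0, 9, 2, 3, 5]),
   ([7, 3, 6, 8, 6, 8, 5, 2], [9, 0, 1, 3, 9, 1, 5]),
   ([7, 3, 5, 8, 5, 8, 8], [9, 9, 3, 1, 9, 5]),
   ([8, 4, 5, 7, 5, 5, 8], [9, 0, 5, 9, 3, 9, 3]),
   ([8, 3, 6, 8, 4, 6], [9, 0, 9, 5, 9, 9]),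
   ([7, 5, 5, 7, 7, 6, 7, 5], [9, 1, 9, 1, 5, 9, 9]),
   ([7, 4, 5, 7, 6, 7, 1, 5], [9, 0, 3, 9, 0, 9, 3]),
   ([7, 3, 6, 7, 5, 7, 6], [9, 1, 3, 9, 1, 3, 9, 9]),
   ([8, 5, 8, 5, 1, 8], [9, 1, 5, 1, 9, 0, 9, 5]),
   ([7, 5, 7, 5, 7, 3, 6], [9, 2, 9, 2, 9, 9, 9, 3]),
   ([7, 6, 8, 8, 5, 7, 5], [9, 9, 9, 5, 5]),
   ([7, 3, 6, 7, 5, 7, 6, 1], [9, 3, 9, 3, 9, 1, 9]),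
   ([8, 5, 5, 8, 5, 5, 7], [9, 0, 5, 9, 1, 9, 9]),
   ([8, 5, 5, 8, 5, 5], [9, 0, 5, 9, 0, 5, 9, 5]),
   ([7, 3, 6, 7, 6, 7, 3], [9, 0, 2, 9, 3, 5]),
   ([8, 5, 8, 8, 5, 7], [9, 5, 9, 5, 2, 9]),
   ([8, 6, 8, 8, 5, 7], [9, 9, 9, 2, 9, 3, 3]),
   ([8, 6, 8, 8, 5, 7, 5], [9, 2, 9, 1, 9, 2, 5]),
   ([8, 6, 7, 7, 6, 7], [9, 0, 3, 9, 9, 5, 9]),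
   ([8, 4, 6, 8, 6, 8], [9, 1, 9, 9, 1, 9]),
   ([7, 4, 5, 8, 3, 5, 7, 6], [9, 9, 3, 9, 0, 5, 9]),
   ([8, 6, 7, 7, 5, 7], [9, 0, 5, 3, 9, 2, 9]),
   ([7, 3, 5, 7, 5, 3, 8, 8], [9, 0, 5, 2, 9, 5, 3]),
   ([7, 6, 7, 6, 3, 8, 5], [9, 1, 9, 5, 5, 5, 9]),
   ([7, 6, 4, 7, 5, 7, 3], [9, 2, 9, 0, 9, 5]),
   ([7, 3, 5, 8, 5, 2, 8, 5], [9, 3, 9, 1, 2, 5]),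
   ([7, 6, 7, 6, 8, 8, 5], [9, 0, 1, 2, 9, 9, 5]),
   ([7, 5, 7, 5, 3, 8, 8], [9, 9, 5, 9, 1, 9]),
   ([7, 3, 6, 7, 6, 3, 8, 8], [9, 0, 5, 5, 9, 2, 5]),
   ([7, 5, 7, 5, 5, 8, 5], [9, 2, 9, 2, 5, 9, 9]),
   ([7, 3, 5, 8, 5, 8, 6], [9, 1, 2, 9, 2, 9, 3]),
   ([7, 5, 7, 7, 5, 7, 3], [9, 9, 5, 5]),
   ([7, 4, 5, 7, 5, 7, 6], [9, 1, 9, 9, 2, 3, 5]),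
   ([7, 5, 7, 7, 5, 7, 6], [9, 9, 9, 2, 9]),
   ([8, 3, 6, 8, 3, 6, 8], [9, 5, 9, 3, 9]),
   ([7, 4, 6, 7, 6, 3, 7, 3], [9, 3, 5, 1, 9, 9]),
   ([8, 5, 8, 8, 5, 8, 3], [9, 0, 9, 2, 9, 5]),
   ([7, 5, 8, 8, 6, 8, 5], [9, 0, 1, 3, 5, 9, 3]),
   ([8, 5, 5, 8, 8, 6, 7], [9, 5, 9, 9, 5, 2, 9]),
   ([8, 6, 7, 7, 5, 7, 6], [9, 0, 9, 9, 1, 9]),
   ([8, 4, 6, 8, 6, 8, 6], [9, 1, 9, 9]),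
   ([7, 6, 6, 7, 6, 7, 6], [9, 3, 9, 3, 9, 9, 3]),
   ([7, 3, 5, 7, 5, 3, 7, 5], [9, 9, 2, 5, 3]),
   ([7, 5, 5, 7, 5, 7, 3], [9, 5, 9, 3]),
   ([7, 3, 5, 7, 6, 8, 5, 7], [9, 9, 1, 3, 9, 3]),
   ([7, 5, 7, 7, 5, 8, 6], [9, 9, 3, 9, 2, 5]),
   ([7, 5, 8, 8, 6, 8, 6], [9, 0, 5, 9, 0, 9]),
   ([7, 5, 5, 7, 5, 7, 4], [9, 2, 5, 3, 9]),
   ([7, 6, 7, 5, 7, 6, 8], [9, 5, 2, 9, 3, 9, 3]),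
   ([7, 6, 7, 5, 7, 6, 7], [9, 1, 3, 9, 3]),
   ([7, 5, 5, 8, 5, 5, 8], [9, 1, 9, 9, 0, 9]),
   ([7, 4, 5, 7, 5, 7, 6, 1], [9, 3, 1, 9, 5, 9]),
   ([7, 5, 5, 7, 6, 7, 3], [9, 9, 9, 1, 5, 9, 5]),
   ([8, 6, 8, 6, 8, 8, 5], [9, 9, 2, 5, 9, 5, 9]),
   ([7, 4, 5, 7, 5, 7, 4, 5], [9, 5, 9, 3, 5, 9]),
   ([8, 6, 8, 5, 5, 8, 6], [9, 0, 3, 1, 9, 1, 3, 9]),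
   ([7, 3, 6, 7, 5, 7, 6, 7], [9, 3, 9, 5, 1, 9, 9]),
   ([7, 6, 8, 8, 6, 8, 5], [9, 0, 9, 0, 3, 1, 9]),
   ([7, 4, 6, 7, 6, 7, 5, 8], [9, 5, 1, 9, 1, 9, 3]),
   ([7, 5, 7, 7, 5, 8, 6, 4], [9, 0, 9, 5, 2, 5, 9]),
   ([8, 5, 8, 5, 8, 0, 8], [9, 1, 9, 2, 9]),
   ([8, 3, 5, 7, 4, 5, 7], [9, 9, 0, 3, 5, 9, 9]),
   ([8, 6, 8, 4, 6, 8], [9, 1, 2, 9, 1, 2, 5]),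
   ([7, 5, 8, 8, 6, 8, 4], [9, 5, 9, 1, 5, 3, 9]),
   ([7, 5, 8, 8, 6, 8], [9, 0, 2, 9, 9, 9, 1, 5]),
   ([8, 3, 6, 7, 5, 3], [9, 3, 5, 9, 5]),
   ([8, 5, 8, 5, 8, 8], [9, 1, 2, 9, 9]),
   ([8, 5, 8, 5, 8, 6, 7], [9, 1, 9, 0, 1, 9, 3]),
   ([7, 4, 5, 7, 6, 8, 5], [9, 1, 5, 2, 9]),
   ([7, 6, 6, 7, 5, 7, 6, 3], [9, 5, 9, 9]),
   ([7, 5, 5, 7, 6, 7, 5, 5], [9, 5, 9, 9, 5]),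
   ([7, 5, 7, 5, 5, 7, 6], [9, 3, 9, 9, 2, 9]),
   ([7, 5, 5, 7, 6, 7, 5], [9, 9, 9, 3, 9]),
   ([8, 6, 8, 5, 5, 8], [9, 0, 1, 2, 9, 2, 5]),
   ([8, 6, 8, 5, 5, 8, 5], [9, 0, 3, 5, 2, 9, 9]),
   ([7, 5, 5, 7, 6, 7, 4], [9, 2, 9, 3, 9, 5, 3])]

/-- Words moving the base point. -/
def blockWords13 : List (List ℕ × List ℕ) :=
  [([7, 4, 5, 7, 5, 7, 5, 4], [9, 1, 9, 2, 3, 9]),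
   ([8, 5, 1, 8, 5], [9, 2, 5, 9, 9, 0, 9]),
   ([7, 6, 7, 6, 7, 5, 3], [9, 0, 5, 9, 3, 9]),
   ([8, 6, 8, 3, 5, 8], [9, 0, 5, 9, 3, 9, 5]),
   ([8, 6, 8, 3, 5], [9, 0, 9, 3, 9, 9, 5]),
   ([8, 4, 6, 7, 7, 6, 7], [9, 5, 9, 1, 9, 3]),
   ([7, 4, 6, 8, 5, 4, 7], [9, 2, 9, 1, 9]),
   ([7, 6, 7, 6, 4, 7, 6], [9, 9, 2, 3, 9, 9]),
   ([8, 6, 8, 8, 5, 8], [9, 1, 5, 9, 9, 9]),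
   ([7, 5, 7, 7, 6, 7, 5], [9, 0, 9, 5, 3, 5, 9]),
   ([7, 4, 6, 7, 6, 7, 7], [9, 9, 0, 1, 9, 2, 9]),
   ([8, 5, 5, 8, 6, 6, 8], [9, 9, 1, 2, 9, 3, 5]),
   ([7, 3, 6, 7, 6, 7, 1, 4], [9, 9, 5, 9, 1, 5]),
   ([8, 5, 8, 8, 5, 7, 3], [9, 1, 3, 9, 1, 5]),
   ([7, 3, 6, 7, 6, 7, 5, 3], [9, 0, 2, 9, 9, 9, 9]),
   ([8, 5, 8, 6, 6, 8], [9, 0, 9, 1, 2, 5]),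
   ([7, 5, 8, 8, 6, 7, 7], [9, 9, 1, 5, 9, 9]),
   ([8, 3, 6, 8, 8, 5], [9, 9, 9, 5, 5, 9]),
   ([8, 6, 8, 5, 5], [9, 0, 5, 9, 0, 1, 9, 5]),
   ([7, 4, 5, 8, 5, 8, 5], [9, 1, 2, 9, 2, 5, 5]),
   ([7, 3, 6, 8, 6, 8, 8], [9, 0, 2, 9, 9, 3, 3]),
   ([8, 3, 6, 8, 8, 5, 8], [9, 0, 9, 5]),
   ([8, 4, 5, 7, 5, 5, 7], [9, 3, 9, 2, 9, 0, 9]),
   ([8, 5, 8, 5, 4, 8], [9, 2, 5, 9, 3, 9, 5]),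
   ([8, 5, 2, 8, 3, 6, 8], [9, 0, 5, 5, 9, 5]),
   ([8, 5, 8, 5, 4, 8, 0], [9, 9, 9, 3, 9, 3]),
   ([8, 6, 8, 6, 4, 8], [9, 1, 5, 1, 3, 9, 5]),
   ([8, 5, 1, 8, 6, 4], [9, 2, 3, 9, 0, 9, 5]),
   ([8, 6, 8, 5, 4], [9, 5, 1, 9, 9, 3]),
   ([7, 4, 6, 7, 6, 7, 3], [9, 3, 9, 3, 5, 9]),
   ([7, 3, 6, 7, 6, 4, 8, 3], [9, 2, 3, 9, 0, 1, 9]),
   ([8, 6, 8, 5, 8, 5, 7], [9, 3, 5, 1, 9, 5]),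
   ([7, 4, 5, 8, 5, 5, 8], [9, 0, 5, 9, 5, 5]),
   ([8, 6, 8, 4, 6], [9, 9, 3, 5, 1, 9]),
   ([8, 5, 5, 7, 6, 6], [9, 0, 2, 5, 9, 1, 9, 9]),
   ([8, 5, 5, 7, 6, 6, 7], [9, 0, 5, 3, 9, 2, 9]),
   ([8, 6, 8, 8, 5], [9, 2, 9, 2, 9]),
   ([7, 3, 6, 8, 6, 7, 3], [9, 0, 5, 1, 9, 3]),
   ([7, 5, 7, 6, 8, 5, 7], [9, 1, 2, 5, 9, 9, 5]),
   ([8, 3, 6, 8, 3, 5], [9, 1, 9, 2, 9, 9, 9]),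
   ([8, 3, 5, 8, 5, 8, 8], [9, 5, 9, 1, 5, 9]),
   ([8, 6, 8, 3, 5, 1], [9, 2, 5, 9, 9, 9, 9]),
   ([8, 5, 1, 8, 5, 5], [9, 3, 9, 1, 9, 9]),
   ([8, 6, 8, 4, 5, 5], [9, 0, 2, 5, 9, 9, 5]),
   ([8, 5, 5, 8, 6, 4], [9, 0, 3, 9, 0, 1, 2, 9]),
   ([8, 5, 5, 8, 3, 6], [9, 0, 1, 3, 9, 0, 2, 9]),
   ([8, 4, 6, 8, 6, 6, 7], [9, 5, 9, 0, 3, 9]),
   ([8, 6, 8, 8, 6, 3, 8], [9, 0, 1, 5, 5, 9, 3]),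
   ([8, 6, 8, 8, 6, 3], [9, 3, 1, 9, 9]),
   ([7, 3, 6, 7, 5, 5, 7], [9, 0, 2, 9, 9, 3, 9, 3]),
   ([8, 5, 8, 5, 5, 8], [9, 1, 5, 9, 5]),
   ([8, 5, 7, 7, 6, 7], [9, 2, 9, 5, 9, 1, 5]),
   ([7, 3, 6, 7, 4, 5, 7], [9, 0, 9, 2, 9, 3]),
   ([7, 4, 6, 7, 6, 8, 5], [9, 0, 1, 3, 3, 9]),
   ([7, 3, 6, 7, 6, 7, 5], [9, 3, 9, 2, 5, 9]),
   ([8, 5, 1, 8, 6, 6], [9, 0, 5, 9, 3, 3, 9]),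
   ([8, 4, 6, 8, 3, 5, 8], [9, 3, 5, 2, 9, 9]),
   ([7, 3, 5, 7, 4, 5, 7], [9, 0, 5, 9, 1, 9, 9]),
   ([7, 3, 6, 7, 5, 7, 3], [9, 5, 9, 3, 1, 3, 9]),
   ([8, 3, 6, 8, 5], [9, 3, 5, 9, 3, 5]),
   ([8, 3, 6, 8, 4, 5], [9, 5, 9, 3]),
   ([7, 3, 6, 7, 3, 5, 7], [9, 0, 3, 1, 5, 9]),
   ([7, 5, 5, 7, 6, 8, 5], [9, 2, 9, 3]),
   ([7, 3, 5, 7, 6, 3, 7], [9, 1, 2, 9, 0, 3, 9, 3]),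
   ([8, 4, 5, 8, 5, 8, 5], [9, 0, 1, 9, 9, 5]),
   ([8, 3, 5, 8, 5, 8, 6], [9, 2, 9, 9, 9]),
   ([8, 6, 6, 8, 6, 4, 8], [9, 0, 9, 1, 3, 9]),
   ([8, 4, 5, 8, 5, 4, 8], [9, 1, 9, 1, 5, 9]),
   ([8, 5, 1, 8, 6, 6, 8], [9, 1, 2, 9, 1, 5]),
   ([8, 5, 1, 8, 8, 6, 7], [9, 9, 1, 5, 9, 5, 3]),
   ([7, 6, 6, 7, 6, 7, 7], [9, 3, 3, 9, 3, 5]),
   ([7, 6, 8, 5, 8, 6, 7], [9, 0, 2, 5, 3, 9, 3]),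
   ([8, 4, 6, 8, 6, 4, 8], [9, 1, 9, 5, 9, 9]),
   ([7, 4, 5, 7, 3, 6, 7, 7], [9, 1, 5, 5, 9]),
   ([7, 6, 4, 7, 6, 7, 7], [9, 0, 2, 9, 0, 9, 9]),
   ([8, 5, 5, 8, 6, 4, 8], [9, 1, 9, 5, 9, 3]),
   ([8, 6, 8, 6, 6, 8, 6], [9, 5, 5, 2, 9, 2, 5]),
   ([8, 6, 8, 6, 6, 8], [9, 5, 2, 9, 1, 5]),
   ([7, 6, 7, 7, 5, 7, 3], [9, 0, 2, 5, 1, 9]),
   ([7, 4, 5, 7, 6, 7, 3], [9, 0, 1, 5, 1, 9, 3]),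
   ([8, 5, 8, 6, 6, 8, 6], [9, 0, 5, 9]),
   ([8, 5, 8, 4, 5, 8], [9, 0, 1, 9, 2, 5]),
   ([8, 5, 7, 7, 5, 7], [9, 5, 3, 9, 3, 1, 5]),
   ([8, 4, 6, 7, 5, 5, 7], [9, 3, 1, 5, 2, 9, 9]),
   ([8, 5, 7, 7, 5, 7, 5], [9, 3, 9, 3, 5]),
   ([7, 5, 7, 5, 7, 4, 5], [9, 0, 9, 5, 3, 9, 5]),
   ([7, 6, 4, 7, 6, 7, 5], [9, 3, 3, 9, 9, 9, 9]),
   ([8, 5, 8, 4, 5, 8, 6], [9, 0, 2, 3, 9, 3, 9]),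
   ([7, 5, 7, 5, 7, 4, 5, 7], [9, 0, 9, 9, 9, 5, 5]),
   ([7, 5, 7, 7, 6, 8, 5], [9, 0, 2, 5, 9, 5, 5]),
   ([7, 5, 7, 7, 5, 5, 7], [9, 0, 9, 2, 9, 5]),
   ([7, 5, 7, 6, 8, 6, 3], [9, 5, 9, 9, 0, 9]),
   ([7, 6, 7, 6, 7, 5, 7], [9, 5, 1, 2, 9, 5]),
   ([7, 6, 7, 5, 8, 6, 8], [9, 0, 9, 2, 9]),
   ([7, 5, 8, 6, 8, 5, 1], [9, 9, 9, 3, 9, 5, 3]),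
   ([7, 6, 6, 7, 5, 7, 6], [9, 0, 2, 5, 3, 9]),
   ([7, 5, 8, 6, 8, 5, 5], [9, 0, 5, 5, 9, 0, 9]),
   ([7, 4, 6, 7, 5, 7, 4], [9, 0, 5, 5, 9]),
   ([7, 3, 6, 8, 6, 8, 4], [9, 0, 1, 5, 1, 9, 3]),
   ([7, 3, 5, 7, 6, 8, 5], [9, 9, 3, 9, 1, 9])]

/-- Words moving the base point. -/
def blockWords14 : List (List ℕ × List ℕ) :=
  [([7, 3, 5, 7, 6, 8, 5, 1], [9, 3, 9, 9, 9, 3]),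
   ([7, 4, 6, 8, 6, 6, 8, 5], [9, 9, 9, 9]),
   ([7, 3, 5, 7, 6, 8, 5, 8], [9, 1, 2, 9, 2, 9]),
   ([7, 4, 6, 7, 6, 7, 5, 1], [9, 5, 3, 9]),
   ([7, 4, 6, 7, 6, 7, 5], [9, 1, 5, 3, 9]),
   ([7, 6, 6, 7, 6, 7, 4], [9, 2, 5, 5, 9]),
   ([7, 5, 7, 7, 6, 1, 8, 5], [9, 1, 5, 5, 9, 3]),
   ([7, 5, 7, 5, 3, 7, 3, 6], [9, 5, 9, 0, 9]),
   ([7, 5, 5, 7, 6, 7, 4, 6], [9, 0, 1, 9, 2, 5, 5]),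
   ([8, 5, 1, 8, 5, 5, 8], [9, 2, 5, 9, 1, 9, 9]),
   ([7, 3, 5, 7, 5, 5, 7], [9, 9, 1, 2, 9, 5]),
   ([7, 3, 5, 7, 5, 4, 7], [9, 5, 9, 5, 9]),
   ([8, 4, 5, 8, 5, 8, 4], [9, 0, 3, 5, 9]),
   ([7, 3, 6, 7, 5, 5, 7, 5], [9, 9, 5, 2, 5, 9]),
   ([7, 4, 6, 7, 7, 6, 8, 3], [9, 2, 5, 9]),
   ([7, 5, 7, 5, 7, 7, 6], [9, 1, 5, 1, 9, 9]),
   ([7, 6, 4, 7, 5, 7, 4], [9, 9, 9, 1, 9, 3]),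
   ([7, 6, 4, 7, 5, 7, 6], [9, 1, 9, 9, 2, 5, 3]),
   ([7, 4, 6, 7, 6, 7, 1, 6], [9, 1, 3, 9, 2, 5]),
   ([7, 3, 5, 7, 5, 7, 5, 3], [9, 5, 2, 5, 9]),
   ([8, 4, 6, 8, 5, 5, 7], [9, 1, 3, 9, 9, 3]),
   ([7, 3, 5, 7, 5, 1, 7, 5], [9, 2, 9, 1, 9, 5]),
   ([8, 4, 5, 8, 5, 8, 0], [9, 5, 9, 3, 3]),
   ([7, 6, 7, 7, 6, 7, 3], [9, 2, 3, 9, 0, 9]),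
   ([7, 5, 7, 7, 6, 8, 3, 6], [9, 1, 5, 9, 9]),
   ([7, 6, 6, 7, 6, 7, 5], [9, 3, 9, 9, 3]),
   ([7, 5, 5, 7, 5, 7, 6], [9, 2, 5, 5, 9, 2, 9]),
   ([8, 5, 8, 6, 8, 6, 8], [9, 5, 2, 9, 2, 9]),
   ([7, 4, 6, 7, 5, 7, 6], [9, 3, 9, 9, 3, 9]),
   ([8, 5, 8, 5, 8, 8, 5], [9, 2, 5, 5, 9, 3, 3]),
   ([8, 6, 8, 6, 8, 5, 7], [9, 1, 3, 9, 5, 5, 9]),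
   ([7, 4, 6, 7, 6, 7, 5, 3], [9, 5, 9, 3, 5, 9]),
   ([7, 4, 6, 7, 3, 5, 7], [9, 1, 5, 9, 9, 3, 9]),
   ([7, 4, 6, 7, 5, 4, 7], [9, 3, 5, 9, 0, 9, 3]),
   ([7, 4, 5, 7, 6, 7, 4], [9, 0, 1, 5, 5, 9]),
   ([7, 4, 5, 7, 5, 2, 7, 6], [9, 2, 9, 2, 9, 3, 9]),
   ([7, 4, 6, 7, 5, 5, 8, 3], [9, 0, 2, 9, 3, 9]),
   ([8, 5, 1, 8, 6, 6, 8, 5], [9, 2, 3, 9, 0, 3, 9]),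
   ([7, 4, 6, 7, 5, 5, 8, 5], [9, 3, 3, 9, 5]),
   ([8, 6, 8, 5, 1, 8, 6], [9, 3, 9, 1, 9, 5]),
   ([7, 6, 7, 4, 6, 7, 6], [9, 3, 1, 3, 9]),
   ([8, 4, 6, 8, 6, 8, 4], [9, 3, 1, 5, 2, 9]),
   ([8, 4, 5, 8, 5, 5, 7], [9, 5, 3, 9, 2, 9, 9]),
   ([8, 6, 8, 5, 8, 8, 6], [9, 1, 9, 0, 2, 3, 9]),
   ([7, 5, 7, 6, 7, 6, 4], [9, 1, 5, 1, 9, 1, 5]),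
   ([8, 5, 5, 8, 3, 6, 8], [9, 5, 5, 9, 3]),
   ([8, 5, 8, 5, 5, 8, 5], [9, 5, 1, 3, 3, 9]),
   ([7, 4, 6, 7, 5, 7, 3], [9, 0, 2, 5, 1, 9, 3]),
   ([7, 3, 6, 7, 6, 7, 5, 8], [9, 0, 3, 5, 1, 9, 3, 5]),
   ([8, 6, 6, 8, 3, 6, 8], [9, 3, 9, 9, 3]),
   ([8, 5, 8, 8, 5, 5, 8], [9, 2, 3, 9, 9, 3]),
   ([8, 6, 8, 5, 8, 5, 8], [9, 1, 5, 9, 5, 5]),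
   ([7, 3, 6, 7, 6, 7, 7], [9, 3, 9, 1, 2, 9]),
   ([8, 6, 8, 6, 6, 8, 5], [9, 2, 9, 1, 3, 5]),
   ([7, 3, 5, 1, 7, 6, 7, 7], [9, 1, 9, 1, 5, 9]),
   ([7, 3, 6, 7, 6, 7, 4], [9, 9, 9, 1, 9, 3]),
   ([7, 5, 7, 6, 8, 5, 5], [9, 1, 3, 9, 2, 5]),
   ([8, 5, 8, 6, 8, 5], [9, 0, 3, 1, 3, 9, 5]),
   ([7, 6, 7, 6, 3, 7, 6], [9, 0, 3, 1, 3, 9]),
   ([7, 5, 5, 7, 5, 7, 4, 5], [9, 1, 5, 9, 5, 2, 9]),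
   ([8, 5, 7, 7, 5, 7, 6], [9, 5, 5, 9, 2, 9, 9]),
   ([7, 5, 5, 7, 5, 7, 6, 6], [9, 0, 1, 9, 1, 9, 9])]

/-- For every other point, a word to it and a word from the base to the image of the base under the seventh letter. -/
def blockWords : List (List ℕ × List ℕ) :=
  [blockWords0, blockWords1, blockWords2, blockWords3, blockWords4, blockWords5, blockWords6, blockWords7, blockWords8, blockWords9, blockWords10, blockWords11, blockWords12, blockWords13, blockWords14].flatten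

end Cfsg.Agent.JOneRecog.Cert
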