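import Mathlib

/-!
A checker for derivations in a coset space: every fact says that a letter sends a named point to a named point, and is
either a definition of a name, a generator fixing the base point, or the last side of a closed relator path.
-/

set_option autoImplicit false

namespace Cfsg.Agent.JOneRecog.Cert

/-- Evaluate a number before using it, so that the kernel works with numerals. -/
def force {α : Type} (n : ℕ) (f : ℕ → α) : α := Nat.casesOn n (f 0) fun m => f (m + 1)

@[simp] theorem force_eq {α : Type} (n : ℕ) (f : ℕ → α) : force n f = f n := by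
  cases n <;> rfl

/-- Equality test. -/
def eqb (a b : ℕ) : Bool := Nat.beq a b

@[simp] theorem eqb_eq {a b : ℕ} : (eqb a b = true) = (a = b) := Nat.beq_eq

theorem eqb_beq (a b : ℕ) : eqb a b = (a == b) := by
  rw [Bool.eq_iff_iff, eqb_eq, beq_iff_eq]

/-- Fold, evaluating each intermediate value. -/
def foldF (g : ℕ → ℕ → ℕ) : List ℕ → ℕ → ℕ
  | [], i => i
  | x :: w, i => force (g i x) (foldF g w)

theorem foldF_eq (g : ℕ → ℕ → ℕ) : ∀ (w : List ℕ) (i : ℕ), foldF g w i = w.foldl g i
  | [], _ => rfl
  | x :: w, i => by rw [foldF, force_eq, List.foldl_cons, foldF_eq g w]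

/-- The field `i` of width `w` of a packed number. -/
def fld (F w i : ℕ) : ℕ := (F >>> (w * i)) % 2 ^ w

/-- A tree of packed numbers. -/
inductive BT where
  | leaf (n : ℕ)
  | node (l r : BT)

/-- The block reached by the binary digits of `i`, lowest first. -/
def BT.get : BT → ℕ → ℕ
  | .leaf n, _ => n
  | .node l r, i => force (i / 2) fun j => bif eqb (i % 2) 0 then l.get j else r.get j

/-- The field `i` of width `w` of a tree of blocks of 128 fields. -/
def fldT (T : BT) (w i : ℕ) : ℕ := force i fun i => force (i / 128) fun b => fld (T.get b) w (i % 128)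

/-- The inverse letter. -/
def invL : ℕ → ℕ
  | 3 => 4
  | 4 => 3
  | 5 => 6
  | 6 => 5
  | 7 => 8
  | 8 => 7
  | n => n

/-- A derivation. -/
structure Derivation where
  /-- facts, 32 bits each: letter, source, target -/
  F : BT
  /-- parents of the names, 20 bits each: letter, parent -/
  P : BT
  /-- one justification for each fact -/
  steps : List ℕ

namespace Derivation

variable (D : Derivation)

/-- The letter of a fact. -/
def fX (k : ℕ) : ℕ := fldT D.F 32 k % 16

/-- The source of a fact. -/
def fC (k : ℕ) : ℕ := fldT D.F 32 k / 16 % 16384

/-- The target of a fact. -/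
def fD (k : ℕ) : ℕ := fldT D.F 32 k / 262144

/-- The letter naming `d`. -/
def parX (d : ℕ) : ℕ := fldT D.P 20 d % 16

/-- The parent of `d`. -/
def parC (d : ℕ) : ℕ := fldT D.P 20 d / 16

theorem fld_defs (k : ℕ) : fldT D.F 32 k % 16 = D.fX k ∧ fldT D.F 32 k / 16 % 16384 = D.fC k ∧
    fldT D.F 32 k / 262144 = D.fD k := ⟨rfl, rfl, rfl⟩

/-- Follow the premises from `node` and compare with the word `w`, ending at `c`. -/
def walk (k c : ℕ) : ℕ → ℕ → ℕ → List ℕ → Bool
  | 0, _, node, w => eqb node c && w.isEmpty
  | n + 1, bits, node, w =>
    force (bits % 65536 / 2) fun j =>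
    force (fldT D.F 32 j) fun v =>
    force (bif eqb (bits % 2) 1 then invL (v % 16) else v % 16) fun x =>
    force (bif eqb (bits % 2) 1 then v / 262144 else v / 16 % 16384) fun src =>
    force (bif eqb (bits % 2) 1 then v / 16 % 16384 else v / 262144) fun tgt =>
    force (bits / 65536) fun rest =>
    Nat.blt j k && (eqb node src) &&
      (bif eqb x 9 then walk k c n rest tgt w
       else match w with
        | [] => false
        | y :: w' => (eqb x y) && walk k c n rest tgt w')

/-- One step. -/
def verify (rels : List (List ℕ)) (sub : List ℕ) (k code : ℕ) : Bool :=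
  force (fldT D.F 32 k) fun v =>
  force (v % 16) fun x =>
  force (v / 16 % 16384) fun c =>
  force (v / 262144) fun d =>
  bif eqb (code % 4) 0 then
    Nat.blt c d && (eqb (D.parC d) c) && (eqb (D.parX d) x)
  else bif eqb (code % 4) 1 then
    (eqb c 0) && (eqb d 0) && sub.contains x
  else
    force (code / 4 % 128) fun r =>
    force (code / 512 % 64) fun i =>
    force (code / 32768 % 256) fun n =>
    force (code / 8388608) fun bits =>
    bif eqb x 9 then D.walk k c n bits d ((rels.getD r []).rotate i)
    else match (rels.getD r []).rotate i with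
      | [] => false
      | y :: w' => (eqb x y) && D.walk k c n bits d w'

/-- All steps from the `k`-th. -/
def verifyFrom (rels : List (List ℕ)) (sub : List ℕ) : ℕ → List ℕ → Bool
  | _, [] => true
  | k, code :: l => D.verify rels sub k code && force (k + 1) fun k' => verifyFrom rels sub k' l

/-- The whole derivation. -/
def check (rels : List (List ℕ)) (sub : List ℕ) : Bool := D.verifyFrom rels sub 0 D.steps

variable {G X : Type*} [Group G] [MulAction G X] (val : ℕ → G)

/-- The action of a letter. -/
def st (x : ℕ) (q : X) : X := (val x)⁻¹ • q

/-- The named points. -/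
noncomputable def pt (base : X) (n : ℕ) : X :=
  if h : D.parC n < n then st val (D.parX n) (pt base (D.parC n)) else base
termination_by n

/-- The meaning of the `k`-th fact. -/
def Holds (base : X) (k : ℕ) : Prop :=
  st val (D.fX k) (D.pt val base (D.fC k)) = D.pt val base (D.fD k)

theorem foldl_st (w : List ℕ) (q : X) :
    w.foldl (fun q x => st val x q) q = ((w.map val).prod)⁻¹ • q := by
  induction w generalizing q with
  | nil => simp
  | cons y w ih =>
    rw [List.foldl_cons, ih, List.map_cons, List.prod_cons, mul_inv_rev, mul_smul]
    rfl

variable {val} {base : X} (h9 : val 9 = 1) (hinv : ∀ x, val (invL x) = (val x)⁻¹)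
include h9 hinv

theorem walk_sound {k c : ℕ} (hk : ∀ j, j < k → D.Holds val base j) :
    ∀ n bits node w, D.walk k c n bits node w = true →
      w.foldl (fun q x => st val x q) (D.pt val base node) = D.pt val base c := by
  intro n
  induction n with
  | zero =>
    intro bits node w e
    simp only [walk, eqb_beq, Bool.and_eq_true, beq_iff_eq, List.isEmpty_iff] at e
    rw [e.2, e.1]
    rfl
  | succ n ih =>
    intro bits node w e
    simp only [walk, force_eq, (D.fld_defs _).1, (D.fld_defs _).2.1, (D.fld_defs _).2.2, eqb_beq, Bool.and_eq_true, Nat.blt_eq, beq_iff_eq] at e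
    obtain ⟨⟨hj, hnode⟩, e⟩ := e
    have hH := hk _ hj
    unfold Holds at hH
    have key : st val (bif bits % 2 == 1 then invL (D.fX (bits % 65536 / 2)) else D.fX (bits % 65536 / 2))
        (D.pt val base node) = D.pt val base
          (bif bits % 2 == 1 then D.fC (bits % 65536 / 2) else D.fD (bits % 65536 / 2)) := by
      rw [hnode]
      cases bits % 2 == 1
      · exact hH
      · simp only [cond_true]
        rw [← hH]
        simp [st, hinv]
    revert e key
    generalize (bif bits % 2 == 1 then invL (D.fX (bits % 65536 / 2)) else D.fX (bits % 65536 / 2)) = x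
    generalize (bif bits % 2 == 1 then D.fC (bits % 65536 / 2) else D.fD (bits % 65536 / 2)) = tgt
    intro e key
    cases hx : x == 9
    · rw [hx, cond_false] at e
      cases w with
      | nil => simp at e
      | cons y w' =>
        simp only [Bool.and_eq_true, beq_iff_eq] at e
        rw [List.foldl_cons, ← e.1, key]
        exact ih _ _ _ e.2
    · rw [hx, cond_true] at e
      obtain rfl := beq_iff_eq.1 hx
      rw [show D.pt val base node = D.pt val base tgt by rw [← key]; simp [st, h9]]
      exact ih _ _ _ e

theorem verify_sound {rels : List (List ℕ)} {sub : List ℕ} (hrels : ∀ w ∈ rels, (w.map val).prod = 1)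
    (hsub : ∀ x ∈ sub, val x • base = base) {k code : ℕ} (hk : ∀ j, j < k → D.Holds val base j)
    (e : D.verify rels sub k code = true) : D.Holds val base k := by
  simp only [verify, force_eq, (D.fld_defs _).1, (D.fld_defs _).2.1, (D.fld_defs _).2.2, eqb_beq] at e
  unfold Holds
  have hbase : D.pt val base 0 = base := by rw [pt]; simp
  cases h0 : code % 4 == 0
  · rw [h0, cond_false] at e
    cases h1 : code % 4 == 1
    · rw [h1, cond_false] at e
      set w := (rels.getD (code / 4 % 128) []).rotate (code / 512 % 64) with hw
      have hid : ∀ q : X, w.foldl (fun q x => st val x q) q = q := by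
        intro q
        have hr : ((rels.getD (code / 4 % 128) []).map val).prod = 1 := by
          rw [List.getD_eq_getElem?_getD]
          cases hg : rels[code / 4 % 128]? with
          | none => simp
          | some r => exact hrels r (List.mem_of_getElem? hg)
        rw [foldl_st, hw, List.map_rotate, List.prod_rotate_eq_one_of_prod_eq_one hr, inv_one, one_smul]
      cases hx : D.fX k == 9
      · rw [hx, cond_false] at e
        cases hwc : w with
        | nil => rw [hwc] at e; simp at e
        | cons y w' =>
          rw [hwc] at e hid
          simp only [Bool.and_eq_true, beq_iff_eq] at e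
          have hwalk := D.walk_sound h9 hinv hk _ _ _ _ e.2
          have hi := hid (D.pt val base (D.fC k))
          rw [List.foldl_cons, ← e.1, foldl_st] at hi
          rw [foldl_st] at hwalk
          exact MulAction.injective _ (hi.trans hwalk.symm)
      · rw [hx, cond_true] at e
        rw [beq_iff_eq.1 hx, ← D.walk_sound h9 hinv hk _ _ _ _ e, hid]
        simp [st, h9]
    · rw [h1, cond_true] at e
      simp only [Bool.and_eq_true, beq_iff_eq, List.contains_iff_mem] at e
      rw [e.1.1, e.1.2, hbase, st]
      exact inv_smul_eq_iff.2 (hsub _ e.2).symm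
  · rw [h0, cond_true] at e
    simp only [Bool.and_eq_true, beq_iff_eq, Nat.blt_eq] at e
    conv_rhs => rw [pt]
    rw [dif_pos (by omega), e.1.2, e.2]

theorem check_sound {rels : List (List ℕ)} {sub : List ℕ} (hrels : ∀ w ∈ rels, (w.map val).prod = 1)
    (hsub : ∀ x ∈ sub, val x • base = base) (e : D.check rels sub = true) :
    ∀ k, k < D.steps.length → D.Holds val base k := by
  have key : ∀ l k, D.verifyFrom rels sub k l = true → (∀ j, j < k → D.Holds val base j) →
      ∀ j, j < k + l.length → D.Holds val base j := by
    intro l
    induction l with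
    | nil => intro k _ hk j hj; exact hk j (by simpa using hj)
    | cons code l ih =>
      intro k e hk j hj
      simp only [verifyFrom, force_eq, Bool.and_eq_true] at e
      refine ih (k + 1) e.2 (fun i hi => ?_) j (by simp at hj; omega)
      rcases Nat.lt_succ_iff_lt_or_eq.1 hi with h | rfl
      · exact hk i h
      · exact D.verify_sound h9 hinv hrels hsub hk e.1
  intro k hk
  exact key D.steps 0 e (fun j hj => absurd hj (Nat.not_lt_zero j)) k (by simpa using hk)

omit h9 hinv in
theorem verifyFrom_append (rels : List (List ℕ)) (sub : List ℕ) (l l' : List ℕ) : ∀ k,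
    D.verifyFrom rels sub k (l ++ l') = (D.verifyFrom rels sub k l && D.verifyFrom rels sub (k + l.length) l') := by
  induction l with
  | nil => simp [verifyFrom]
  | cons a l ih =>
    intro k
    rw [List.cons_append, verifyFrom, verifyFrom, force_eq, force_eq, ih, Bool.and_assoc, List.length_cons,
      Nat.add_right_comm, Nat.add_assoc]

end Derivation

end Cfsg.Agent.JOneRecog.Cert
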