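import Cfsg.Agent.JOneRecog.Cert.Good
import Cfsg.Agent.JOneRecog.Cert.Collapse
import Cfsg.Agent.JOneRecog.Cert.Blocks

/-!
The checks on the table.
-/

set_option autoImplicit false
set_option maxRecDepth 100000
set_option linter.all false

namespace Cfsg.Agent.JOneRecog.Cert

/-- The table. -/
def T (x i : ℕ) : ℕ := fldT tableCode 11 (x * 1463 + i)

/-- The name of the `i`-th point. -/
def nd (i : ℕ) : ℕ := fldT nameCode 16 i

/-- Apply a word in the table. -/
def appT (w : List ℕ) (i : ℕ) : ℕ := w.foldl (fun u x => T x u) i

/-- The table is inverse to itself under inversion of letters. -/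
def tableCheck : Bool :=
  (List.range 9).all fun x => Nat.blt (invL x) 9 && force (invL x) fun x' => (List.range 1463).all fun i =>
    force (T x i) fun u => Nat.blt u 1463 && eqb (T x' u) i

theorem tableCheck_ok : tableCheck = true := by decide +kernel

/-- Every edge of the table is proved. -/
def edgeCheck : Bool :=
  (List.range 9).all fun x => (List.range 1463).all fun i =>
    force (fldT edgeCode 16 (x * 1463 + i)) fun e =>
    force (e / 2) fun k =>
    force (nd i) fun a =>
    force (nd (T x i)) fun b =>
    Nat.blt k 21578 && (bif eqb (e % 2) 1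
      then (eqb (invL (goodCert.fX k)) x) && (eqb (goodCert.fD k) a) && (eqb (goodCert.fC k) b)
      else (eqb (goodCert.fX k) x) && (eqb (goodCert.fC k) a) && (eqb (goodCert.fD k) b))

theorem edgeCheck_ok : edgeCheck = true := by decide +kernel

theorem nd_zero : nd 0 = 0 := by decide +kernel

theorem parC_zero : goodCert.parC 0 = 0 := by decide +kernel

theorem subL_fix : subL.all (fun x => decide (x < 9) && (T x 0 == 0)) = true := by decide +kernel

/-- One row of the check, and the next ones. -/
def blockGo : List (List ℕ × List ℕ) → ℕ → Bool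
  | [], k => eqb k 1462
  | wm :: l, k => force (k + 1) fun j =>
    eqb (foldF (fun u x => T x u) wm.1 0) j && wm.1.all (fun x => Nat.blt x 9) &&
      eqb (foldF (fun u x => bif eqb x 9 then foldF (fun u x => T x u) wm.1 u else T x u) wm.2 0) (T 7 0) &&
      wm.2.all (fun x => eqb x 9 || subL.contains x) && blockGo l j

/-- The `k`-th pair of words shows that the `k`-th point is in no block with the base point. -/
def blockCheck : Bool :=
  blockGo blockWords 0

theorem blockCheck_ok : blockCheck = true := by decide +kernel

theorem blockGo_spec : ∀ (l : List (List ℕ × List ℕ)) (k i : ℕ), blockGo l k = true → k + i < 1462 →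
    ((appT (l.getD i ([], [])).1 0 == k + i + 1) && (l.getD i ([], [])).1.all (fun x => decide (x < 9)) &&
      ((l.getD i ([], [])).2.foldl (fun u x => bif x == 9 then appT (l.getD i ([], [])).1 u else T x u) 0 == T 7 0) &&
      (l.getD i ([], [])).2.all (fun x => (x == 9) || subL.contains x)) = true
  | [], k, i, h, hi => by
    simp only [blockGo, eqb_eq] at h
    omega
  | wm :: l, k, i, h, hi => by
    simp only [blockGo, force_eq, Bool.and_eq_true] at h
    obtain ⟨⟨⟨⟨h1, h2⟩, h3⟩, h4⟩, h5⟩ := h
    cases i with
    | zero =>
      simp only [List.getD_cons_zero, Bool.and_eq_true]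
      simp only [foldF_eq, eqb_beq] at h1 h2 h3 h4
      refine ⟨⟨⟨h1, ?_⟩, h3⟩, h4⟩
      simp only [List.all_eq_true, Nat.blt_eq, decide_eq_true_eq] at h2 ⊢
      exact h2
    | succ i =>
      rw [List.getD_cons_succ, show k + (i + 1) = k + 1 + i by omega]
      exact blockGo_spec l (k + 1) i h5 (by omega)

theorem blockCheck_spec : ((List.range 1462).all fun k =>
    (appT (blockWords.getD k ([], [])).1 0 == k + 1) && (blockWords.getD k ([], [])).1.all (fun x => decide (x < 9)) &&
      ((blockWords.getD k ([], [])).2.foldl (fun u x => bif x == 9 then appT (blockWords.getD k ([], [])).1 u else T x u) 0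
        == T 7 0) &&
      (blockWords.getD k ([], [])).2.all (fun x => (x == 9) || subL.contains x)) = true := by
  rw [List.all_eq_true]
  intro k hk
  have h := blockGo_spec blockWords 0 k blockCheck_ok (by simpa using List.mem_range.1 hk)
  rwa [Nat.zero_add] at h

end Cfsg.Agent.JOneRecog.Cert
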