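import Cfsg.Agent.JOneRecog.Cert.Data

/-!
Checking the derivation.
-/

set_option autoImplicit false
set_option maxRecDepth 100000
set_option linter.all false

namespace Cfsg.Agent.JOneRecog.Cert

theorem good_seg0 : goodCert.verifyFrom (relsWith rel_good) subL 0 goodSteps0 = true := by decide +kernel

theorem good_seg1 : goodCert.verifyFrom (relsWith rel_good) subL 500 goodSteps1 = true := by decide +kernel

theorem good_seg2 : goodCert.verifyFrom (relsWith rel_good) subL 1000 goodSteps2 = true := by decide +kernel

theorem good_seg3 : goodCert.verifyFrom (relsWith rel_good) subL 1500 goodSteps3 = true := by decide +kernel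

theorem good_seg4 : goodCert.verifyFrom (relsWith rel_good) subL 2000 goodSteps4 = true := by decide +kernel

theorem good_seg5 : goodCert.verifyFrom (relsWith rel_good) subL 2500 goodSteps5 = true := by decide +kernel

theorem good_seg6 : goodCert.verifyFrom (relsWith rel_good) subL 3000 goodSteps6 = true := by decide +kernel

theorem good_seg7 : goodCert.verifyFrom (relsWith rel_good) subL 3500 goodSteps7 = true := by decide +kernel

theorem good_seg8 : goodCert.verifyFrom (relsWith rel_good) subL 4000 goodSteps8 = true := by decide +kernel

theorem good_seg9 : goodCert.verifyFrom (relsWith rel_good) subL 4500 goodSteps9 = true := by decide +kernel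

theorem good_seg10 : goodCert.verifyFrom (relsWith rel_good) subL 5000 goodSteps10 = true := by decide +kernel

theorem good_seg11 : goodCert.verifyFrom (relsWith rel_good) subL 5500 goodSteps11 = true := by decide +kernel

theorem good_seg12 : goodCert.verifyFrom (relsWith rel_good) subL 6000 goodSteps12 = true := by decide +kernel

theorem good_seg13 : goodCert.verifyFrom (relsWith rel_good) subL 6500 goodSteps13 = true := by decide +kernel

theorem good_seg14 : goodCert.verifyFrom (relsWith rel_good) subL 7000 goodSteps14 = true := by decide +kernel

theorem good_seg15 : goodCert.verifyFrom (relsWith rel_good) subL 7500 goodSteps15 = true := by decide +kernel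

theorem good_seg16 : goodCert.verifyFrom (relsWith rel_good) subL 8000 goodSteps16 = true := by decide +kernel

theorem good_seg17 : goodCert.verifyFrom (relsWith rel_good) subL 8500 goodSteps17 = true := by decide +kernel

theorem good_seg18 : goodCert.verifyFrom (relsWith rel_good) subL 9000 goodSteps18 = true := by decide +kernel

theorem good_seg19 : goodCert.verifyFrom (relsWith rel_good) subL 9500 goodSteps19 = true := by decide +kernel

theorem good_seg20 : goodCert.verifyFrom (relsWith rel_good) subL 10000 goodSteps20 = true := by decide +kernel

theorem good_seg21 : goodCert.verifyFrom (relsWith rel_good) subL 10500 goodSteps21 = true := by decide +kernel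

theorem good_seg22 : goodCert.verifyFrom (relsWith rel_good) subL 11000 goodSteps22 = true := by decide +kernel

theorem good_seg23 : goodCert.verifyFrom (relsWith rel_good) subL 11500 goodSteps23 = true := by decide +kernel

theorem good_seg24 : goodCert.verifyFrom (relsWith rel_good) subL 12000 goodSteps24 = true := by decide +kernel

theorem good_seg25 : goodCert.verifyFrom (relsWith rel_good) subL 12500 goodSteps25 = true := by decide +kernel

theorem good_seg26 : goodCert.verifyFrom (relsWith rel_good) subL 13000 goodSteps26 = true := by decide +kernel

theorem good_seg27 : goodCert.verifyFrom (relsWith rel_good) subL 13500 goodSteps27 = true := by decide +kernel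

theorem good_seg28 : goodCert.verifyFrom (relsWith rel_good) subL 14000 goodSteps28 = true := by decide +kernel

theorem good_seg29 : goodCert.verifyFrom (relsWith rel_good) subL 14500 goodSteps29 = true := by decide +kernel

theorem good_seg30 : goodCert.verifyFrom (relsWith rel_good) subL 15000 goodSteps30 = true := by decide +kernel

theorem good_seg31 : goodCert.verifyFrom (relsWith rel_good) subL 15500 goodSteps31 = true := by decide +kernel

theorem good_seg32 : goodCert.verifyFrom (relsWith rel_good) subL 16000 goodSteps32 = true := by decide +kernel

theorem good_seg33 : goodCert.verifyFrom (relsWith rel_good) subL 16500 goodSteps33 = true := by decide +kernel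

theorem good_seg34 : goodCert.verifyFrom (relsWith rel_good) subL 17000 goodSteps34 = true := by decide +kernel

theorem good_seg35 : goodCert.verifyFrom (relsWith rel_good) subL 17500 goodSteps35 = true := by decide +kernel

theorem good_seg36 : goodCert.verifyFrom (relsWith rel_good) subL 18000 goodSteps36 = true := by decide +kernel

theorem good_seg37 : goodCert.verifyFrom (relsWith rel_good) subL 18500 goodSteps37 = true := by decide +kernel

theorem good_seg38 : goodCert.verifyFrom (relsWith rel_good) subL 19000 goodSteps38 = true := by decide +kernel

theorem good_seg39 : goodCert.verifyFrom (relsWith rel_good) subL 19500 goodSteps39 = true := by decide +kernel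

theorem good_seg40 : goodCert.verifyFrom (relsWith rel_good) subL 20000 goodSteps40 = true := by decide +kernel

theorem good_seg41 : goodCert.verifyFrom (relsWith rel_good) subL 20500 goodSteps41 = true := by decide +kernel

theorem good_seg42 : goodCert.verifyFrom (relsWith rel_good) subL 21000 goodSteps42 = true := by decide +kernel

theorem good_seg43 : goodCert.verifyFrom (relsWith rel_good) subL 21500 goodSteps43 = true := by decide +kernel

theorem goodCert_length : goodCert.steps.length = 21578 := by decide +kernel

theorem goodCert_check : goodCert.check (relsWith rel_good) subL = true := by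
  simp only [Derivation.check, goodCert, List.flatten_cons, List.flatten_nil, List.append_nil]
  simp only [Derivation.verifyFrom_append, Bool.and_eq_true]
  refine ⟨?_, ?_, ?_, ?_, ?_, ?_, ?_, ?_, ?_, ?_, ?_, ?_, ?_, ?_, ?_, ?_, ?_, ?_, ?_, ?_, ?_, ?_, ?_, ?_, ?_, ?_, ?_, ?_, ?_, ?_, ?_, ?_, ?_, ?_, ?_, ?_, ?_, ?_, ?_, ?_, ?_, ?_, ?_, ?_⟩
  · exact good_seg0
  · exact good_seg1
  · exact good_seg2
  · exact good_seg3
  · exact good_seg4
  · exact good_seg5
  · exact good_seg6
  · exact good_seg7
  · exact good_seg8
  · exact good_seg9
  · exact good_seg10
  · exact good_seg11
  · exact good_seg12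
  · exact good_seg13
  · exact good_seg14
  · exact good_seg15
  · exact good_seg16
  · exact good_seg17
  · exact good_seg18
  · exact good_seg19
  · exact good_seg20
  · exact good_seg21
  · exact good_seg22
  · exact good_seg23
  · exact good_seg24
  · exact good_seg25
  · exact good_seg26
  · exact good_seg27
  · exact good_seg28
  · exact good_seg29
  · exact good_seg30
  · exact good_seg31
  · exact good_seg32
  · exact good_seg33
  · exact good_seg34
  · exact good_seg35
  · exact good_seg36
  · exact good_seg37
  · exact good_seg38
  · exact good_seg39
  · exact good_seg40
  · exact good_seg41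
  · exact good_seg42
  · exact good_seg43

end Cfsg.Agent.JOneRecog.Cert
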