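import Cfsg.Agent.JOneRecog.Cert.Check

/-!
The relators. Letters: 0 the central involution, 1/2 the four group, 3/4 order three, 5/6 order five, 7/8 order
seven; 9 is the identity.
-/

set_option autoImplicit false
set_option maxRecDepth 100000
set_option linter.all false

namespace Cfsg.Agent.JOneRecog.Cert

/-- The relators of the centraliser. -/
def centRels : List (List ℕ) :=
  [[0, 0],
   [1, 1],
   [2, 2],
   [3, 3, 3],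
   [5, 5, 5, 5, 5],
   [0, 1, 0, 1],
   [0, 2, 0, 2],
   [0, 3, 0, 4],
   [0, 5, 0, 6],
   [1, 2, 1, 2],
   [3, 1, 4, 2, 1],
   [3, 2, 4, 1],
   [5, 1, 5, 1, 5, 1],
   [5, 2, 5, 2, 5, 2, 5, 2, 5, 2],
   [5, 3, 5, 3, 5, 3, 5, 3, 5, 3],
   [1, 5, 1, 5, 1, 5],
   [3, 5, 3, 5, 3, 5, 3, 5, 3, 5],
   [4, 6, 1, 5, 5, 1],
   [2, 5, 5, 1, 6, 6, 1, 5, 5]]

/-- The relators of the normaliser. -/
def normRels : List (List ℕ) :=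
  [[7, 7, 7, 7, 7, 7, 7],
   [3, 7, 4, 8, 8],
   [7, 0, 8, 2],
   [7, 1, 8, 2, 0],
   [7, 2, 8, 1]]

/-- The inverse pairs. -/
def pairRels : List (List ℕ) := [[3, 4], [4, 3], [5, 6], [6, 5], [7, 8], [8, 7]]

/-- All relators, with the last one. -/
def relsWith (r : List ℕ) : List (List ℕ) := [] :: (centRels ++ normRels ++ [r]) ++ pairRels

/-- A last relator. -/
def rel_v0 : List ℕ := [7, 7, 3, 6, 8, 8, 2, 5, 7, 7, 5, 4, 8, 8, 6, 2]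

/-- A last relator. -/
def rel_v1 : List ℕ := [7, 7, 1, 6, 4, 8, 8, 2, 5, 7, 7, 3, 5, 1, 8, 8, 6, 2]

/-- A last relator. -/
def rel_bad : List ℕ := [8, 1, 5, 7, 2, 5, 8, 6, 1, 7, 6, 2]

/-- A last relator. -/
def rel_good : List ℕ := [8, 1, 6, 7, 2, 5, 8, 5, 1, 7, 6, 2]

/-- The letters fixing the base point. -/
def subL : List ℕ := [0, 1, 2, 3, 5]

/-- A word for every element of the centraliser. -/
def centWords : List (List ℕ) :=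
  [[],
   [0],
   [1],
   [2],
   [3],
   [4],
   [5],
   [6],
   [0, 1],
   [0, 2],
   [0, 3],
   [0, 4],
   [0, 5],
   [0, 6],
   [1, 2],
   [1, 3],
   [1, 4],
   [1, 5],
   [1, 6],
   [2, 3],
   [2, 4],
   [2, 5],
   [2, 6],
   [3, 1],
   [3, 5],
   [3, 6],
   [4, 2],
   [4, 5],
   [4, 6],
   [5, 1],
   [5, 2],
   [5, 3],
   [5, 4],
   [5, 5],
   [6, 1],
   [6, 2],
   [6, 3],
   [6, 4],
   [6, 6],
   [0, 1, 2],
   [0, 1, 3],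
   [0, 1, 4],
   [0, 1, 5],
   [0, 1, 6],
   [0, 2, 3],
   [0, 2, 4],
   [0, 2, 5],
   [0, 2, 6],
   [0, 3, 1],
   [0, 3, 5],
   [0, 3, 6],
   [0, 4, 2],
   [0, 4, 5],
   [0, 4, 6],
   [0, 5, 1],
   [0, 5, 2],
   [0, 5, 3],
   [0, 5, 4],
   [0, 5, 5],
   [0, 6, 1],
   [0, 6, 2],
   [0, 6, 3],
   [0, 6, 4],
   [0, 6, 6],
   [1, 2, 5],
   [1, 2, 6],
   [1, 3, 6],
   [1, 4, 5],
   [1, 4, 6],
   [1, 5, 1],
   [1, 5, 2],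
   [1, 5, 3],
   [1, 5, 5],
   [1, 6, 1],
   [1, 6, 2],
   [1, 6, 3],
   [1, 6, 4],
   [1, 6, 6],
   [2, 3, 5],
   [2, 3, 6],
   [2, 4, 6],
   [2, 5, 4],
   [2, 6, 4],
   [2, 6, 6],
   [3, 1, 6],
   [3, 5, 1],
   [3, 6, 2],
   [4, 2, 6],
   [4, 5, 5],
   [5, 3, 5],
   [5, 4, 2],
   [0, 1, 2, 5],
   [0, 1, 2, 6],
   [0, 1, 3, 6],
   [0, 1, 4, 5],
   [0, 1, 4, 6],
   [0, 1, 5, 1],
   [0, 1, 5, 2],
   [0, 1, 5, 3],
   [0, 1, 5, 5],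
   [0, 1, 6, 1],
   [0, 1, 6, 2],
   [0, 1, 6, 3],
   [0, 1, 6, 4],
   [0, 1, 6, 6],
   [0, 2, 3, 5],
   [0, 2, 3, 6],
   [0, 2, 4, 6],
   [0, 2, 5, 4],
   [0, 2, 6, 4],
   [0, 2, 6, 6],
   [0, 3, 1, 6],
   [0, 3, 5, 1],
   [0, 3, 6, 2],
   [0, 4, 2, 6],
   [0, 4, 5, 5],
   [0, 5, 3, 5],
   [0, 5, 4, 2],
   [1, 2, 6, 6],
   [0, 1, 2, 6, 6]]

end Cfsg.Agent.JOneRecog.Cert
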