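import Cfsg.Agent.JOneRecog.Cert.Facts

/-!
What the derivations give: a group with such generators acts on the 1463 cosets by fixed permutations.
-/

set_option autoImplicit false
set_option maxRecDepth 100000
set_option linter.all false

namespace Cfsg.Agent.JOneRecog.Cert

theorem T_spec {x i : ℕ} (hx : x < 9) (hi : i < 1463) :
    T x i < 1463 ∧ T (invL x) (T x i) = i := by
  have h := tableCheck_ok
  simp only [tableCheck, force_eq, eqb_beq, Nat.blt_eq, List.all_eq_true, List.mem_range, Bool.and_eq_true, decide_eq_true_eq,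
    beq_iff_eq] at h
  exact (h x hx).2 i hi

theorem invL_lt {x : ℕ} (hx : x < 9) : invL x < 9 := by
  have h := tableCheck_ok
  simp only [tableCheck, force_eq, eqb_beq, Nat.blt_eq, List.all_eq_true, List.mem_range, Bool.and_eq_true, decide_eq_true_eq,
    beq_iff_eq] at h
  exact (h x hx).1

theorem invL_invL : ∀ x, invL (invL x) = x := by
  intro x
  match x with
  | 0 | 1 | 2 | 3 | 4 | 5 | 6 | 7 | 8 => rfl
  | n + 9 => rfl

/-- The permutation of the points by a letter. -/
def sgm (x : Fin 9) : Equiv.Perm (Fin 1463) where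
  toFun i := ⟨T (invL x) i, (T_spec (invL_lt x.2) i.2).1⟩
  invFun i := ⟨T x i, (T_spec x.2 i.2).1⟩
  left_inv i := Fin.ext (by
    have h := (T_spec (invL_lt x.2) i.2).2
    rwa [invL_invL] at h)
  right_inv i := Fin.ext (T_spec x.2 i.2).2

/-- The permutation group of the table. -/
def TG : Subgroup (Equiv.Perm (Fin 1463)) := Subgroup.closure (Set.range sgm)

variable {G X : Type*} [Group G] [MulAction G X] {val : ℕ → G} {base : X}
variable (h9 : val 9 = 1) (hinv : ∀ x, val (invL x) = (val x)⁻¹)
variable (hbase : ∀ w ∈ centRels ++ normRels, (w.map val).prod = 1) (hsub : ∀ x ∈ subL, val x • base = base)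
variable (hne : val 7 • base ≠ base)
include h9 hinv hbase hsub hne

theorem rels_ok {r : List ℕ} (hr : (r.map val).prod = 1) : ∀ w ∈ relsWith r, (w.map val).prod = 1 := by
  intro w hw
  simp only [relsWith, List.cons_append, List.mem_cons, List.mem_append, List.not_mem_nil, or_false] at hw
  rcases hw with rfl | (((h | h) | rfl) | h)
  · rfl
  · exact hbase w (List.mem_append_left _ h)
  · exact hbase w (List.mem_append_right _ h)
  · exact hr
  · have key : ∀ x : ℕ, ([x, invL x].map val).prod = 1 := fun x => by simp [hinv]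
    simp only [pairRels, List.mem_cons, List.not_mem_nil, or_false] at h
    rcases h with rfl | rfl | rfl | rfl | rfl | rfl
    exacts [key 3, key 4, key 5, key 6, key 7, key 8]

theorem collapse {D : Derivation} {r : List ℕ} (hr : (r.map val).prod = 1) {n : ℕ}
    (hc : D.check (relsWith r) subL = true)
    (hl : D.steps.length = n + 1 ∧ D.fX n = 7 ∧ D.fC n = 0 ∧ D.fD n = 0) : False := by
  have h := D.check_sound (base := base) h9 hinv (rels := relsWith r) (rels_ok h9 hinv hbase hsub hne hr) hsub hc n
    (by omega)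
  obtain ⟨-, hx, hC, hD⟩ := hl
  unfold Derivation.Holds at h
  rw [hx, hC, hD, show D.pt val base 0 = base by rw [Derivation.pt]; simp] at h
  exact hne (inv_smul_eq_iff.1 h).symm

/-- The 1463 named points are distinct and are permuted as in the table. -/
theorem exists_points (hgood : (rel_good.map val).prod = 1) :
    ∃ p : Fin 1463 → X, Function.Injective p ∧ (∀ (x : Fin 9) (i : Fin 1463), val x • p i = p (sgm x i)) ∧
      ∀ i, ∃ y ∈ Subgroup.closure (Set.range fun x : Fin 9 => val x), y • base = p i := by
  classical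
  have hold := goodCert.check_sound (base := base) h9 hinv (rels := relsWith rel_good)
    (rels_ok h9 hinv hbase hsub hne hgood) hsub goodCert_check
  let p : Fin 1463 → X := fun i => goodCert.pt val base (nd i)
  have hp0 : p 0 = base := by
    show goodCert.pt val base (nd 0) = base
    rw [nd_zero, Derivation.pt]
    simp
  have hedge : ∀ (x i : ℕ) (hx : x < 9) (hi : i < 1463),
      Derivation.st val x (p ⟨i, hi⟩) = p ⟨T x i, (T_spec hx hi).1⟩ := by
    intro x i hx hi
    have h := edgeCheck_ok
    simp only [edgeCheck, force_eq, eqb_beq, Nat.blt_eq, List.all_eq_true, List.mem_range, Bool.and_eq_true, decide_eq_true_eq] at h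
    obtain ⟨hk, hb⟩ := h x hx i hi
    have hH := hold _ (goodCert_length.symm ▸ hk)
    unfold Derivation.Holds at hH
    show Derivation.st val x (goodCert.pt val base (nd i)) = goodCert.pt val base (nd (T x i))
    cases ho : fldT edgeCode 16 (x * 1463 + i) % 2 == 1
    · rw [ho] at hb
      simp only [cond_false, Bool.and_eq_true, beq_iff_eq] at hb
      rwa [hb.1.1, hb.1.2, hb.2] at hH
    · rw [ho] at hb
      simp only [cond_true, Bool.and_eq_true, beq_iff_eq] at hb
      rw [← hb.1.2, ← hb.2, ← hH, Derivation.st, Derivation.st,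
        show val x = (val (goodCert.fX (fldT edgeCode 16 (x * 1463 + i) / 2)))⁻¹ from
          (congrArg val hb.1.1).symm.trans (hinv _)]
      simp
  have hsgm : ∀ (x : Fin 9) (i : Fin 1463), val x • p i = p (sgm x i) := by
    intro x i
    have h := hedge (invL x) i (invL_lt x.2) i.2
    rw [Derivation.st, hinv, inv_inv] at h
    exact h
  -- no other point coincides with the base point
  have happ : ∀ w : List ℕ, (∀ x ∈ w, x < 9) → ∀ (u : ℕ) (hu : u < 1463), ∃ hb : appT w u < 1463,
      w.foldl (fun q x => Derivation.st val x q) (p ⟨u, hu⟩) = p ⟨appT w u, hb⟩ := by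
    intro w
    induction w with
    | nil => exact fun _ u hu => ⟨hu, rfl⟩
    | cons x w ih =>
      intro hw u hu
      obtain ⟨hb, e⟩ := ih (fun y hy => hw y (List.mem_cons_of_mem _ hy)) (T x u)
        (T_spec (hw x List.mem_cons_self) hu).1
      refine ⟨hb, ?_⟩
      rw [List.foldl_cons, hedge x u (hw x List.mem_cons_self) hu, e]
      rfl
  have hzero : ∀ (j : ℕ) (hj : j < 1463), p ⟨j, hj⟩ = base → j = 0 := by
    intro j hj hpj
    by_contra hj0
    have h := blockCheck_spec
    simp only [List.all_eq_true, List.mem_range, Bool.and_eq_true, decide_eq_true_eq,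
      beq_iff_eq, Bool.or_eq_true, List.contains_iff_mem] at h
    obtain ⟨⟨⟨hw, hwl⟩, hm⟩, hml⟩ := h (j - 1) (by omega)
    generalize hwm : blockWords.getD (j - 1) ([], []) = wm at hw hwl hm hml
    obtain ⟨w, m⟩ := wm
    dsimp only at hw hwl hm hml
    have hwj : appT w 0 = j := by omega
    suffices key : ∀ m : List ℕ, (∀ x ∈ m, x = 9 ∨ x ∈ subL) → ∀ (u : ℕ) (hu : u < 1463),
        p ⟨u, hu⟩ = base → ∃ hb : m.foldl (fun u x => bif x == 9 then appT w u else T x u) u < 1463,
          p ⟨_, hb⟩ = base by
      obtain ⟨hb, e⟩ := key m hml 0 (by norm_num) hp0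
      have e' : p ⟨T 7 0, (T_spec (by norm_num) (by norm_num)).1⟩ = base := by
        convert e using 2
        exact Fin.ext hm.symm
      rw [← hedge 7 0 (by norm_num) (by norm_num),
        show p ⟨0, by norm_num⟩ = base from hp0, Derivation.st, inv_smul_eq_iff] at e'
      exact hne e'.symm
    intro m
    induction m with
    | nil => exact fun _ u hu e => ⟨hu, e⟩
    | cons x m ih =>
      intro hm' u hu e
      simp only [List.foldl_cons]
      have hml' : ∀ y ∈ m, y = 9 ∨ y ∈ subL := fun y hy => hm' y (List.mem_cons_of_mem _ hy)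
      rcases hm' x List.mem_cons_self with rfl | hx
      · obtain ⟨hb, eb⟩ := happ w hwl u hu
        obtain ⟨hb0, eb0⟩ := happ w hwl 0 (by norm_num)
        refine ih hml' _ hb ?_
        show p ⟨appT w u, hb⟩ = base
        rw [← eb, e, ← hp0, show p 0 = p ⟨0, by norm_num⟩ from rfl, eb0]
        exact (congrArg p (Fin.ext hwj)).trans (hpj.trans hp0.symm)
      · have hs := subL_fix
        simp only [List.all_eq_true, Bool.and_eq_true, decide_eq_true_eq, beq_iff_eq] at hs
        obtain ⟨hx9, -⟩ := hs x hx
        have hne9 : (x == 9) = false := beq_eq_false_iff_ne.2 (by omega)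
        simp only [hne9, cond_false]
        refine ih hml' _ (T_spec hx9 hu).1 ?_
        rw [← hedge x u hx9 hu, e, Derivation.st, inv_smul_eq_iff, hsub x hx]
  have hword : ∀ k : Fin 1463, k ≠ 0 → ∃ w : List ℕ, (∀ x ∈ w, x < 9) ∧ appT w 0 = k := by
    intro k hk
    have hk' : (k : ℕ) ≠ 0 := fun e => hk (Fin.ext e)
    have h := blockCheck_spec
    simp only [List.all_eq_true, List.mem_range, Bool.and_eq_true, decide_eq_true_eq,
      beq_iff_eq] at h
    obtain ⟨⟨⟨hw, hwl⟩, -⟩, -⟩ := h ((k : ℕ) - 1) (by omega)
    exact ⟨_, hwl, by omega⟩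
  have hinj : Function.Injective p := by
    intro i k e
    by_contra hik
    wlog hk : k ≠ 0 generalizing i k
    · exact this e.symm (Ne.symm hik) (fun hi => hik (hi.trans (not_not.1 hk).symm))
    obtain ⟨w, hwl, hw⟩ := hword k hk
    obtain ⟨hb, eb⟩ := happ w hwl 0 (by norm_num)
    let y : G := (w.map val).prod
    have hy : y • p k = base := by
      have : p k = p ⟨appT w 0, hb⟩ := congrArg p (Fin.ext hw.symm)
      rw [this, ← eb, Derivation.foldl_st, smul_inv_smul]
      exact hp0
    let σ : Equiv.Perm (Fin 1463) := (w.map fun x => if hx : x < 9 then sgm ⟨x, hx⟩ else 1).prod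
    have hσ : ∀ i, y • p i = p (σ i) := by
      clear hb eb hy hw e hik
      induction w with
      | nil => intro i; simp [y, σ]
      | cons x w ih =>
        intro i
        simp only [y, σ, List.map_cons, List.prod_cons, mul_smul, Equiv.Perm.mul_apply]
        rw [ih (fun z hz => hwl z (List.mem_cons_of_mem _ hz)), dif_pos (hwl x List.mem_cons_self)]
        exact hsgm ⟨x, _⟩ _
    have h1 := hzero (σ i) (σ i).2 (by rw [← hy, ← e, hσ])
    have h2 := hzero (σ k) (σ k).2 (by rw [← hy, hσ])
    exact hik (σ.injective (Fin.ext (h1.trans h2.symm)))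
  refine ⟨p, hinj, hsgm, fun i => ?_⟩
  by_cases hi : i = 0
  · exact ⟨1, one_mem _, by rw [one_smul, hi, hp0]⟩
  · obtain ⟨w, hwl, hw⟩ := hword i hi
    obtain ⟨hb, eb⟩ := happ w hwl 0 (by norm_num)
    refine ⟨((w.map val).prod)⁻¹, inv_mem (Subgroup.list_prod_mem _ fun y hy => ?_), ?_⟩
    · obtain ⟨x, hx, rfl⟩ := List.mem_map.1 hy
      exact Subgroup.subset_closure ⟨⟨x, hwl x hx⟩, rfl⟩
    · rw [← Derivation.foldl_st, ← hp0]
      exact eb.trans (congrArg p (Fin.ext hw))

/-- A faithful transitive action on 1463 points with such generators is that of the table group. -/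
theorem equiv_TG (hgood : (rel_good.map val).prod = 1)
    (hstab : ∀ y : G, y • base = base → y ∈ Subgroup.closure (Set.range fun x : Fin 9 => val x))
    (hcard : Nat.card X = 1463) (hker : ∀ y : G, (∀ q : X, y • q = q) → y = 1) :
    Nonempty (G ≃* ↥TG) := by
  classical
  obtain ⟨p, hinj, hsgm, hreach⟩ := exists_points h9 hinv hbase hsub hne hgood
  haveI : Finite X := Nat.finite_of_card_ne_zero (by rw [hcard]; norm_num)
  have hbij : Function.Bijective p :=
    (Nat.bijective_iff_injective_and_card p).2 ⟨hinj, by rw [hcard, Nat.card_fin]⟩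
  have hsurj := hbij.2
  have hgen : ∀ y : G, y ∈ Subgroup.closure (Set.range fun x : Fin 9 => val x) := by
    intro y
    obtain ⟨i, hi⟩ := hsurj (y • base)
    obtain ⟨u, hu, hub⟩ := hreach i
    have := hstab (u⁻¹ * y) (by rw [mul_smul, ← hi, ← hub, inv_smul_smul])
    simpa using mul_mem hu this
  let e := Equiv.ofBijective p ⟨hinj, hsurj⟩
  let f : G →* Equiv.Perm (Fin 1463) := e.symm.permCongrHom.toMonoidHom.comp (MulAction.toPermHom G X)
  have hf : ∀ y i, p (f y i) = y • p i := fun y i => e.apply_symm_apply _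
  have hfinj : Function.Injective f := (injective_iff_map_eq_one f).2 fun y hy => hker y fun q => by
    obtain ⟨i, rfl⟩ := hsurj q
    rw [← hf, hy, Equiv.Perm.one_apply]
  have hfsgm : ∀ x : Fin 9, f (val x) = sgm x := fun x => Equiv.ext fun i => hinj (by rw [hf, hsgm])
  have hrange : f.range = TG := by
    have hG : Subgroup.closure (Set.range fun x : Fin 9 => val x) = ⊤ :=
      (Subgroup.eq_top_iff' _).2 hgen
    rw [MonoidHom.range_eq_map, ← hG, MonoidHom.map_closure, TG, ← Set.range_comp]
    exact congrArg Subgroup.closure (congrArg Set.range (funext hfsgm))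
  exact ⟨(MonoidHom.ofInjective hfinj).trans (MulEquiv.subgroupCongr hrange)⟩

end Cfsg.Agent.JOneRecog.Cert
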